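import Groth.Agent.ArSing.K813.Pow2
import Groth.Agent.CurvesC.NodalAlg

/-!
# `A`-singularities: double points of plane curves over an algebraically closed field
-/

set_option autoImplicit false

namespace K813.ASing

open MvPowerSeries IsLocalRing K813.Pow2 K813.NF

universe u v

variable {k : Type u} [Field k]

theorem isDomain : IsDomain (MvPowerSeries (Fin 2) k) := NoZeroDivisors.to_isDomain _

theorem map_mem_pow (φ : MvPowerSeries (Fin 2) k ≃ₐ[k] MvPowerSeries (Fin 2) k) (n : ℕ)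
    (z : MvPowerSeries (Fin 2) k) : φ z ∈ maximalIdeal (MvPowerSeries (Fin 2) k) ^ n ↔
    z ∈ maximalIdeal (MvPowerSeries (Fin 2) k) ^ n := by
  constructor
  · intro h
    have := K813.Invol.map_mem_pow K813.Basic.exists_const
      (φ.symm : MvPowerSeries (Fin 2) k →ₐ[k] MvPowerSeries (Fin 2) k) n h
    simpa using this
  · intro h
    exact K813.Invol.map_mem_pow K813.Basic.exists_const
      (φ : MvPowerSeries (Fin 2) k →ₐ[k] MvPowerSeries (Fin 2) k) n h

/-- Weierstrass preparation for a double point in general position. -/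
theorem exists_wprep (F : MvPowerSeries (Fin 2) k)
    (hF : F ∈ maximalIdeal (MvPowerSeries (Fin 2) k) ^ 2)
    (h2 : coeff (Finsupp.single 1 2) F ≠ 0) :
    ∃ (b c : PowerSeries k) (u : MvPowerSeries (Fin 2) k), IsUnit u ∧
      F = (X 1 ^ 2 + incl k b * X 1 + incl k c) * u ∧
      PowerSeries.constantCoeff b = 0 ∧ PowerSeries.constantCoeff c = 0 := by
  classical
  have hcomp := isAdicComplete_ps k
  have hres : ∀ z : PowerSeries k, IsLocalRing.residue (PowerSeries k) z = 0 ↔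
      PowerSeries.constantCoeff z = 0 := by
    intro z
    rw [IsLocalRing.residue_eq_zero_iff]
    exact K813.Basic.mem_maximalIdeal_iff (σ := Unit)
  have hcoef : ∀ n, PowerSeries.constantCoeff (PowerSeries.coeff n (E k F)) =
      coeff (Finsupp.single 1 n) F := by
    intro n
    rw [← PowerSeries.coeff_zero_eq_constantCoeff_apply, coeff_coeff_E]
    simp
  have hord : ((E k F).map (IsLocalRing.residue (PowerSeries k))).order = (2 : ℕ) := by
    rw [PowerSeries.order_eq_nat]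
    constructor
    · rw [PowerSeries.coeff_map, Ne, hres, hcoef]
      exact h2
    · intro i hi
      rw [PowerSeries.coeff_map, hres, hcoef]
      exact (mem_pow_iff 2).1 hF _ (by simpa using hi)
  have hne : (E k F).map (IsLocalRing.residue (PowerSeries k)) ≠ 0 := by
    intro h
    rw [h, PowerSeries.order_zero] at hord
    exact ENat.top_ne_natCast 2 hord
  obtain ⟨f, h, H⟩ := PowerSeries.exists_isWeierstrassFactorization hne
  have hdeg : f.natDegree = 2 := by
    rw [H.natDegree_eq_toNat_order_map, hord, ENat.toNat_natCast]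
  have hmon : f.Monic := H.isDistinguishedAt.monic
  have hmem : ∀ i < 2, PowerSeries.constantCoeff (f.coeff i) = 0 := by
    intro i hi
    have := H.isDistinguishedAt.mem (n := i) (by rw [hdeg]; exact hi)
    exact (K813.Basic.mem_maximalIdeal_iff (σ := Unit)).1 this
  have hf : f = Polynomial.X ^ 2 + Polynomial.C (f.coeff 1) * Polynomial.X +
      Polynomial.C (f.coeff 0) := by
    have h1 := f.as_sum_range_C_mul_X_pow
    rw [hdeg] at h1
    have h3 : f.coeff 2 = 1 := by rw [← hdeg]; exact hmon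
    conv_lhs => rw [h1]
    rw [Finset.sum_range_succ, Finset.sum_range_succ, Finset.sum_range_one, h3]
    simp only [pow_zero, mul_one, pow_one, map_one, one_mul]
    ring
  refine ⟨f.coeff 1, f.coeff 0, (E k).symm h, H.isUnit.map (E k).symm, ?_,
    hmem 1 (by norm_num), hmem 0 (by norm_num)⟩
  apply (E k).injective
  have h1 := H.eq_mul
  rw [hf] at h1
  simp only [map_add, map_mul, map_pow, E_X1, E_incl, AlgEquiv.apply_symm_apply]
  rw [h1]
  simp

theorem incl_mem (b : PowerSeries k) (hb : PowerSeries.constantCoeff b = 0) :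
    ∃ b' : PowerSeries k, incl k b = X 0 * incl k b' := by
  obtain ⟨b', rfl⟩ := PowerSeries.X_dvd_iff.2 hb
  exact ⟨b', by rw [map_mul, incl_X]⟩

theorem map_incl (φ : MvPowerSeries (Fin 2) k ≃ₐ[k] MvPowerSeries (Fin 2) k)
    (h : φ (X 0) = X 0) (c : PowerSeries k) : φ (incl k c) = incl k c := by
  have hnoeth : IsNoetherianRing (MvPowerSeries (Fin 2) k) := inferInstance
  have h1 : (φ : MvPowerSeries (Fin 2) k →ₐ[k] MvPowerSeries (Fin 2) k).comp (incl k) = incl k := by
    refine K813.Len.ps_hom_ext K813.Basic.exists_const ?_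
    rw [AlgHom.comp_apply, incl_X]
    exact h
  exact DFunLike.congr_fun h1 c

/-- Completing the square. -/
theorem exists_complete_sq (h2 : (2 : k) ≠ 0) (F : MvPowerSeries (Fin 2) k)
    (hF : F ∈ maximalIdeal (MvPowerSeries (Fin 2) k) ^ 2)
    (hc : coeff (Finsupp.single 1 2) F ≠ 0) :
    ∃ (c : PowerSeries k) (φ : MvPowerSeries (Fin 2) k ≃ₐ[k] MvPowerSeries (Fin 2) k),
      PowerSeries.constantCoeff c = 0 ∧
      Ideal.span {φ (X 1 ^ 2 - incl k c)} = Ideal.span {F} := by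
  have hdom : IsDomain (MvPowerSeries (Fin 2) k) := isDomain
  obtain ⟨b, c, u, hu, hF', hb0, hc0⟩ := exists_wprep F hF hc
  have hb' : PowerSeries.constantCoeff (PowerSeries.C (2⁻¹ : k) * b) = 0 := by
    rw [map_mul, hb0, mul_zero]
  obtain ⟨b', hb'⟩ := incl_mem _ hb'
  set d := incl k (PowerSeries.C (2⁻¹ : k) * b) with hd
  have h2d : 2 * d = incl k b := by
    have h3 : (2 : PowerSeries k) * (PowerSeries.C (2⁻¹ : k) * b) = b := by
      have h4 : (2 : PowerSeries k) = PowerSeries.C (2 : k) := by rw [map_ofNat]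
      rw [← mul_assoc, h4, ← map_mul, mul_inv_cancel₀ h2, map_one, one_mul]
    rw [hd]
    conv_rhs => rw [← h3]
    rw [map_mul (incl k) 2, map_ofNat]
  have hm : maximalIdeal (MvPowerSeries (Fin 2) k) = Ideal.span {X 0, X 1 + d} := by
    rw [maximalIdeal_eq]
    apply le_antisymm
    · rw [Ideal.span_le]
      rintro z (rfl | rfl)
      · exact Ideal.subset_span (by simp)
      · refine Ideal.mem_span_pair.2 ⟨- incl k b', 1, ?_⟩
        rw [hb']; ring
    · rw [Ideal.span_le]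
      rintro z (rfl | rfl)
      · exact Ideal.subset_span (by simp)
      · refine Ideal.mem_span_pair.2 ⟨incl k b', 1, ?_⟩
        rw [hb']; ring
  obtain ⟨φ, hφ0, hφ1⟩ := exists_aut hm
  refine ⟨(PowerSeries.C (2⁻¹ : k) * b) ^ 2 - c, φ, ?_, ?_⟩
  · rw [map_sub, map_pow, map_mul, hb0, hc0]; ring
  · rw [map_sub, map_pow, hφ1, map_incl φ hφ0, hF', Ideal.span_singleton_eq_span_singleton]
    have h3 : (X 1 + d) ^ 2 - incl k ((PowerSeries.C (2⁻¹ : k) * b) ^ 2 - c) =
        X 1 ^ 2 + incl k b * X 1 + incl k c := by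
      rw [map_sub (incl k), map_pow (incl k), ← hd, ← h2d]; ring
    rw [h3]
    exact (associated_mul_unit_left _ _ hu).symm

/-- The normal form of `y² = c(x)`. -/
theorem normal_form [IsAlgClosed k] (h2 : (2 : k) ≠ 0) {c : PowerSeries k}
    (hc : PowerSeries.constantCoeff c = 0) (hne : c ≠ 0) :
    ∃ (n : ℕ) (φ : MvPowerSeries (Fin 2) k ≃ₐ[k] MvPowerSeries (Fin 2) k),
      Ideal.span {φ (X 1 ^ 2 - X 0 ^ (n + 1))} = Ideal.span {(X 1 ^ 2 - incl k c :
        MvPowerSeries (Fin 2) k)} := by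
  have hdom : IsDomain (MvPowerSeries (Fin 2) k) := isDomain
  obtain ⟨s, g, hcg, hg⟩ := K813.Sqrt.exists_eq_X_pow_mul hne
  obtain ⟨v, hv⟩ := K813.Sqrt.exists_sq_ps h2 g hg
  have hv0 : PowerSeries.constantCoeff v ≠ 0 := by
    intro h
    apply hg
    rw [← hv, map_pow, h]; ring
  have hvu : IsUnit v := by
    rw [PowerSeries.isUnit_iff_constantCoeff]
    exact IsUnit.mk0 _ hv0
  obtain ⟨w, hw⟩ := hvu
  have hs : s ≠ 0 := by
    rintro rfl
    rw [pow_zero, one_mul] at hcg
    exact hg (hcg ▸ hc)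
  obtain ⟨n, rfl⟩ := Nat.exists_eq_add_one_of_ne_zero hs
  have hww : incl k (↑w⁻¹ : PowerSeries k) * incl k v = 1 := by
    rw [← map_mul, ← hw, Units.inv_mul, map_one]
  have hm : maximalIdeal (MvPowerSeries (Fin 2) k) =
      Ideal.span {X 0, X 1 * incl k (↑w⁻¹ : PowerSeries k)} := by
    rw [maximalIdeal_eq]
    apply le_antisymm
    · rw [Ideal.span_le]
      rintro z (rfl | rfl)
      · exact Ideal.subset_span (by simp)
      · refine Ideal.mem_span_pair.2 ⟨0, incl k v, ?_⟩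
        linear_combination (X 1 : MvPowerSeries (Fin 2) k) * hww
    · rw [Ideal.span_le]
      rintro z (rfl | rfl)
      · exact Ideal.subset_span (by simp)
      · refine Ideal.mem_span_pair.2 ⟨0, incl k (↑w⁻¹ : PowerSeries k), ?_⟩
        ring
  obtain ⟨φ, hφ0, hφ1⟩ := exists_aut hm
  refine ⟨n, φ, ?_⟩
  rw [map_sub, map_pow, map_pow, hφ1, hφ0, Ideal.span_singleton_eq_span_singleton]
  have hu : IsUnit (incl k (v ^ 2)) := by
    rw [map_pow]
    exact (IsUnit.of_mul_eq_one (incl k (↑w⁻¹ : PowerSeries k))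
      (by rw [mul_comm]; exact hww)).pow 2
  have h3 : (X 1 ^ 2 - incl k c : MvPowerSeries (Fin 2) k) =
      ((X 1 * incl k (↑w⁻¹ : PowerSeries k)) ^ 2 - X 0 ^ (n + 1)) * incl k (v ^ 2) := by
    rw [hcg, ← hv, map_mul, map_pow, map_pow, incl_X]
    linear_combination (- X 1 ^ 2 * (incl k (↑w⁻¹ : PowerSeries k) * incl k v + 1) :
      MvPowerSeries (Fin 2) k) * hww
  rw [h3]
  exact (associated_mul_unit_left _ _ hu).symm

theorem degree_two_cases (d : Fin 2 →₀ ℕ) (hd : d.degree < 3) : d = 0 ∨ d = Finsupp.single 0 1 ∨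
    d = Finsupp.single 1 1 ∨ d = Finsupp.single 0 2 ∨ d = Finsupp.single 0 1 + Finsupp.single 1 1 ∨
    d = Finsupp.single 1 2 := by
  have h1 : d.degree = d 0 + d 1 := by
    rw [Finsupp.degree_eq_sum, Fin.sum_univ_two]
  have h2 : (d 0 = 0 ∧ d 1 = 0) ∨ (d 0 = 1 ∧ d 1 = 0) ∨ (d 0 = 0 ∧ d 1 = 1) ∨
    (d 0 = 2 ∧ d 1 = 0) ∨ (d 0 = 1 ∧ d 1 = 1) ∨ (d 0 = 0 ∧ d 1 = 2) := by omega
  rcases h2 with ⟨h3, h4⟩ | ⟨h3, h4⟩ | ⟨h3, h4⟩ | ⟨h3, h4⟩ | ⟨h3, h4⟩ | ⟨h3, h4⟩
  · left; ext i; fin_cases i <;> simp [h3, h4]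
  · right; left; ext i; fin_cases i <;> simp [h3, h4]
  · right; right; left; ext i; fin_cases i <;> simp [h3, h4]
  · right; right; right; left; ext i; fin_cases i <;> simp [h3, h4]
  · right; right; right; right; left; ext i; fin_cases i <;> simp [h3, h4]
  · right; right; right; right; right; ext i; fin_cases i <;> simp [h3, h4]

theorem coeff_mul_XX (a : k) (i j : Fin 2) (d : Fin 2 →₀ ℕ) :
    coeff d (C a * (X i * X j) : MvPowerSeries (Fin 2) k) =
      if d = Finsupp.single i 1 + Finsupp.single j 1 then a else 0 := by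
  classical
  rw [coeff_C_mul, X, X, monomial_mul_monomial, coeff_monomial, one_mul]
  split_ifs <;> simp

/-- The quadratic part. -/
theorem exists_quad (F : MvPowerSeries (Fin 2) k)
    (hF : F ∈ maximalIdeal (MvPowerSeries (Fin 2) k) ^ 2) :
    F - (C (coeff (Finsupp.single 0 2) F) * (X 0 * X 0) +
      C (coeff (Finsupp.single 0 1 + Finsupp.single 1 1) F) * (X 0 * X 1) +
      C (coeff (Finsupp.single 1 2) F) * (X 1 * X 1)) ∈
      maximalIdeal (MvPowerSeries (Fin 2) k) ^ 3 := by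
  classical
  have h00 : (Finsupp.single (0 : Fin 2) 1 + Finsupp.single 0 1 : Fin 2 →₀ ℕ) =
    Finsupp.single 0 2 := by rw [← Finsupp.single_add]
  have h11 : (Finsupp.single (1 : Fin 2) 1 + Finsupp.single 1 1 : Fin 2 →₀ ℕ) =
    Finsupp.single 1 2 := by rw [← Finsupp.single_add]
  have hne : ∀ d e : Fin 2 →₀ ℕ, d 0 ≠ e 0 → d ≠ e := fun d e h h' => h (by rw [h'])
  rw [mem_pow_iff]
  intro d hd
  rw [map_sub, map_add, map_add, coeff_mul_XX, coeff_mul_XX, coeff_mul_XX, h00, h11]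
  have hF' := (mem_pow_iff 2).1 hF
  rcases degree_two_cases d hd with rfl | rfl | rfl | rfl | rfl | rfl
  · rw [hF' _ (by simp), if_neg (hne _ _ (by simp)), if_neg (hne _ _ (by simp)), if_neg]
    · simp
    · intro h
      have := DFunLike.congr_fun h 1
      simp at this
  · rw [hF' _ (by simp), if_neg (hne _ _ (by simp)), if_neg, if_neg (hne _ _ (by simp))]
    · simp
    · intro h
      have := DFunLike.congr_fun h 1
      simp at this
  · rw [hF' _ (by simp), if_neg (hne _ _ (by simp)), if_neg (hne _ _ (by simp)), if_neg]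
    · simp
    · intro h
      have := DFunLike.congr_fun h 1
      simp at this
  · rw [if_pos rfl, if_neg (hne _ _ (by simp)), if_neg (hne _ _ (by simp))]
    simp
  · rw [if_neg (hne _ _ (by simp)), if_pos rfl, if_neg (hne _ _ (by simp))]
    simp
  · rw [if_neg (hne _ _ (by simp)), if_neg (hne _ _ (by simp)), if_pos rfl]
    simp

/-- A linear change of coordinates makes the coefficient of `y²` non-zero. -/
theorem exists_general (F : MvPowerSeries (Fin 2) k)
    (hF : F ∈ maximalIdeal (MvPowerSeries (Fin 2) k) ^ 2)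
    (hF3 : F ∉ maximalIdeal (MvPowerSeries (Fin 2) k) ^ 3) :
    ∃ φ : MvPowerSeries (Fin 2) k ≃ₐ[k] MvPowerSeries (Fin 2) k,
      coeff (Finsupp.single 1 2) (φ F) ≠ 0 := by
  classical
  have hq := exists_quad F hF
  set α := coeff (Finsupp.single 0 2) F with hα
  set β := coeff (Finsupp.single 0 1 + Finsupp.single 1 1) F with hβ
  set γ := coeff (Finsupp.single 1 2) F with hγ
  have hne : γ ≠ 0 ∨ α ≠ 0 ∨ α + β + γ ≠ 0 := by
    by_contra hcon
    push Not at hcon
    obtain ⟨h1, h2, h3⟩ := hcon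
    have h4 : β = 0 := by rw [h1, h2] at h3; simpa using h3
    apply hF3
    rw [h1, h2, h4] at hq
    simpa using hq
  have key : ∀ φ : MvPowerSeries (Fin 2) k ≃ₐ[k] MvPowerSeries (Fin 2) k,
      coeff (Finsupp.single 1 2) (φ F) = coeff (Finsupp.single 1 2)
        (C α * (φ (X 0) * φ (X 0)) + C β * (φ (X 0) * φ (X 1)) + C γ * (φ (X 1) * φ (X 1))) := by
    intro φ
    have h1 := (map_mem_pow φ 3 _).2 hq
    have h2 := (mem_pow_iff 3).1 h1 (Finsupp.single 1 2) (by simp)
    rw [map_sub, map_sub, sub_eq_zero] at h2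
    rw [h2]
    congr 1
    have hC : ∀ c : k, φ (C c) = C c := fun c => φ.commutes c
    simp only [map_add, map_mul, hC]
  have h11 : (Finsupp.single (1 : Fin 2) 1 + Finsupp.single 1 1 : Fin 2 →₀ ℕ) =
    Finsupp.single 1 2 := by rw [← Finsupp.single_add]
  have hne' : ∀ d e : Fin 2 →₀ ℕ, d 0 ≠ e 0 → d ≠ e := fun d e h h' => h (by rw [h'])
  rcases hne with h | h | h
  · exact ⟨AlgEquiv.refl, h⟩
  · refine ⟨Groth.Agent.CurvesC.NodalAlg.SW k, ?_⟩
    rw [key, Groth.Agent.CurvesC.NodalAlg.SW_X0, Groth.Agent.CurvesC.NodalAlg.SW_X1, map_add,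
      map_add, coeff_mul_XX, coeff_mul_XX, coeff_mul_XX, h11, if_pos rfl,
      if_neg (hne' _ _ (by simp)), if_neg (hne' _ _ (by simp))]
    simpa using h
  · have hm : maximalIdeal (MvPowerSeries (Fin 2) k) = Ideal.span {X 0 + X 1, X 1} := by
      rw [maximalIdeal_eq]
      apply le_antisymm
      · rw [Ideal.span_le]
        rintro z (rfl | rfl)
        · exact Ideal.mem_span_pair.2 ⟨1, -1, by ring⟩
        · exact Ideal.subset_span (by simp)
      · rw [Ideal.span_le]
        rintro z (rfl | rfl)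
        · exact Ideal.mem_span_pair.2 ⟨1, 1, by ring⟩
        · exact Ideal.subset_span (by simp)
    obtain ⟨φ, hφ0, hφ1⟩ := exists_aut hm
    refine ⟨φ, ?_⟩
    rw [key, hφ0, hφ1]
    have h1 : (C α * ((X 0 + X 1) * (X 0 + X 1)) + C β * ((X 0 + X 1) * X 1) + C γ * (X 1 * X 1) :
        MvPowerSeries (Fin 2) k) = C α * (X 0 * X 0) + C (2 * α + β) * (X 0 * X 1) +
          C (α + β + γ) * (X 1 * X 1) := by
      simp only [map_add, map_mul, map_ofNat]
      ring
    rw [h1, map_add, map_add, coeff_mul_XX, coeff_mul_XX, coeff_mul_XX, h11,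
      if_neg (hne' _ _ (by simp)), if_neg (hne' _ _ (by simp)), if_pos rfl]
    simpa using h

/-- Two elements of `m ∖ m²` have isomorphic quotients. -/
theorem equiv_of_smooth {F G : MvPowerSeries (Fin 2) k}
    (hF : F ∈ maximalIdeal (MvPowerSeries (Fin 2) k))
    (hF2 : F ∉ maximalIdeal (MvPowerSeries (Fin 2) k) ^ 2)
    (hG : G ∈ maximalIdeal (MvPowerSeries (Fin 2) k))
    (hG2 : G ∉ maximalIdeal (MvPowerSeries (Fin 2) k) ^ 2) :
    Nonempty ((MvPowerSeries (Fin 2) k ⧸ Ideal.span {F}) ≃ₐ[k]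
      (MvPowerSeries (Fin 2) k ⧸ Ideal.span {G})) := by
  obtain ⟨L, hL⟩ := exists_gen hF hF2
  obtain ⟨φ, _, hφ⟩ := exists_aut hL
  obtain ⟨e⟩ := nonempty_equiv (F := F) (G := X 1) φ (by rw [hφ])
  obtain ⟨L', hL'⟩ := exists_gen hG hG2
  obtain ⟨φ', _, hφ'⟩ := exists_aut hL'
  obtain ⟨e'⟩ := nonempty_equiv (F := G) (G := X 1) φ' (by rw [hφ'])
  exact ⟨e.symm.trans e'⟩

/-- Classification of double points. -/
theorem classify [IsAlgClosed k] (h2 : (2 : k) ≠ 0) (F : MvPowerSeries (Fin 2) k)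
    (hF : F ∈ maximalIdeal (MvPowerSeries (Fin 2) k) ^ 2)
    (hF3 : F ∉ maximalIdeal (MvPowerSeries (Fin 2) k) ^ 3) :
    (∃ n : ℕ, Nonempty ((MvPowerSeries (Fin 2) k ⧸ Ideal.span {F}) ≃ₐ[k]
      (MvPowerSeries (Fin 2) k ⧸ Ideal.span {(X 1 ^ 2 - X 0 ^ (n + 1) :
        MvPowerSeries (Fin 2) k)}))) ∨
    Nonempty ((MvPowerSeries (Fin 2) k ⧸ Ideal.span {F}) ≃ₐ[k]
      (MvPowerSeries (Fin 2) k ⧸ Ideal.span {(X 1 ^ 2 : MvPowerSeries (Fin 2) k)})) := by
  obtain ⟨φ, hφ⟩ := exists_general F hF hF3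
  obtain ⟨e⟩ := nonempty_equiv (F := φ F) (G := F) φ rfl
  obtain ⟨c, ψ, hc, hψ⟩ := exists_complete_sq h2 (φ F) ((map_mem_pow φ 2 F).2 hF) hφ
  obtain ⟨e'⟩ := nonempty_equiv ψ hψ
  by_cases hne : c = 0
  · right
    subst hne
    rw [map_zero, sub_zero] at e'
    exact ⟨e.trans e'.symm⟩
  · left
    obtain ⟨n, θ, hθ⟩ := normal_form h2 hc hne
    obtain ⟨e''⟩ := nonempty_equiv θ hθ
    exact ⟨n, ⟨(e.trans e'.symm).trans e''.symm⟩⟩

end K813.ASing
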