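import Groth.Agent.Ega41.MvPS
import Groth.Agent.Ega41.PowEval
import Mathlib.RingTheory.AdicCompletion.Exactness
import Mathlib.RingTheory.AdicCompletion.Noetherian
import Mathlib.RingTheory.MvPowerSeries.NoZeroDivisors
import Mathlib.RingTheory.Noetherian.Orzech
import Mathlib.Tactic

/-!
# Power series algebras: uniqueness, existence and surjectivity of algebra maps

General facts about `R`-algebra maps out of `MvPowerSeries σ R` into adically complete rings and about
complete Noetherian local `k`-algebras with residue field `k`.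
-/

set_option autoImplicit false

namespace K813.Basic

open MvPowerSeries IsLocalRing Groth.Agent.Ega41

universe u v w

section General

variable {R : Type u} [CommRing R] {S : Type v} [CommRing S] [Algebra R S] {σ : Type w} [Finite σ]

/-- Two algebra maps out of a power series ring agreeing on the variables are equal, if the variables are
mapped to topologically nilpotent elements of a Hausdorff ring. -/
theorem algHom_ext (J : Ideal S) [IsHausdorff J S] {f g : MvPowerSeries σ R →ₐ[R] S}
    (hJ : ∀ i, f (X i) ∈ J) (h : ∀ i, f (X i) = g (X i)) : f = g := by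
  have hpoly : ∀ P : MvPolynomial σ R, f (P : MvPowerSeries σ R) = g (P : MvPowerSeries σ R) := by
    intro P
    have h1 : f.comp (MvPolynomial.coeToMvPowerSeries.algHom R) =
        g.comp (MvPolynomial.coeToMvPowerSeries.algHom R) := by
      apply MvPolynomial.algHom_ext
      intro i
      simpa using h i
    simpa using DFunLike.congr_fun h1 P
  have key : ∀ e : MvPowerSeries σ R →ₐ[R] S, (∀ i, e (X i) ∈ J) → ∀ (n : ℕ) (p : MvPowerSeries σ R),
      p ∈ MvPS.varIdeal σ R ^ n → e p ∈ J ^ n := by
    intro e he n p hp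
    have h1 : (MvPS.varIdeal σ R).map (e : MvPowerSeries σ R →+* S) ≤ J := by
      rw [Ideal.map_span, Ideal.span_le]
      rintro _ ⟨_, ⟨i, rfl⟩, rfl⟩
      exact he i
    have h2 := Ideal.mem_map_of_mem (e : MvPowerSeries σ R →+* S) hp
    rw [Ideal.map_pow] at h2
    exact Ideal.pow_right_mono h1 n h2
  ext p
  rw [IsHausdorff.eq_iff_smodEq (I := J)]
  intro n
  rw [SModEq.sub_mem, smul_eq_mul, Ideal.mul_top]
  have hp := MvPS.sub_truncTotal_mem n p
  have h1 := key f hJ n _ hp
  have h2 := key g (fun i => h i ▸ hJ i) n _ hp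
  have h3 : f p - g p = f (p - (truncTotal n p : MvPolynomial σ R)) -
      g (p - (truncTotal n p : MvPolynomial σ R)) := by
    rw [map_sub, map_sub, hpoly]; ring
  rw [h3]
  exact sub_mem h1 h2

/-- Existence of evaluation maps. -/
theorem exists_algHom (J : Ideal S) [IsAdicComplete J S] (x : σ → S) (hx : ∀ i, x i ∈ J) :
    ∃ f : MvPowerSeries σ R →ₐ[R] S, ∀ i, f (X i) = x i :=
  ⟨PowEval.powEval J x hx, fun i => PowEval.powEval_X J x hx i⟩

/-- Surjectivity criterion for maps out of a power series ring. -/
theorem surjective_of_span (J : Ideal S) [IsHausdorff J S] (f : MvPowerSeries σ R →ₐ[R] S)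
    (hspan : J ≤ Ideal.span (Set.range fun i => f (X i)))
    (hJ : ∀ i, f (X i) ∈ J)
    (hs : ∀ b : S, ∃ t : R, b - algebraMap R S t ∈ J) : Function.Surjective f := by
  have h1 : (MvPS.varIdeal σ R).map (f : MvPowerSeries σ R →+* S) = J := by
    apply le_antisymm
    · rw [Ideal.map_span, Ideal.span_le]
      rintro _ ⟨_, ⟨i, rfl⟩, rfl⟩
      exact hJ i
    · refine hspan.trans ?_
      rw [Ideal.span_le]
      rintro _ ⟨i, rfl⟩
      exact Ideal.mem_map_of_mem (f : MvPowerSeries σ R →+* S) (Ideal.subset_span ⟨i, rfl⟩)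
  have : IsHausdorff ((MvPS.varIdeal σ R).map (f : MvPowerSeries σ R →+* S)) S := by
    rw [h1]; infer_instance
  refine surjective_of_mk_map_comp_surjective (I := MvPS.varIdeal σ R)
    (f : MvPowerSeries σ R →+* S) ?_
  intro b
  obtain ⟨b, rfl⟩ := Ideal.Quotient.mk_surjective b
  obtain ⟨t, ht⟩ := hs b
  refine ⟨algebraMap R _ t, ?_⟩
  rw [RingHom.comp_apply, Ideal.Quotient.eq, h1, ← neg_mem_iff, neg_sub]
  simpa using ht

end General

/-- A surjective endomorphism of a Noetherian ring is injective. -/
theorem injective_of_surjective_ringEnd {A : Type u} [CommRing A] [IsNoetherianRing A] (f : A →+* A)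
    (hf : Function.Surjective f) : Function.Injective f := by
  obtain ⟨n, hn⟩ := monotone_stabilizes_iff_noetherian.mpr (inferInstance : IsNoetherianRing A)
    ⟨fun n => RingHom.ker (f ^ n), monotone_nat_of_le_succ fun n x hx => by
      rw [RingHom.mem_ker] at hx ⊢
      rw [pow_succ', RingHom.mul_def, RingHom.comp_apply, hx, map_zero]⟩
  have hsurj : ∀ n : ℕ, Function.Surjective (f ^ n : A →+* A) := by
    intro n
    induction n with
    | zero => exact fun x => ⟨x, rfl⟩
    | succ n ih => rw [pow_succ']; exact hf.comp ih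
  rw [injective_iff_map_eq_zero]
  intro a ha
  obtain ⟨b, rfl⟩ := hsurj n a
  have h1 : b ∈ RingHom.ker (f ^ (n + 1)) := by
    rw [RingHom.mem_ker, pow_succ']; exact ha
  have h2 := hn (n + 1) (Nat.le_succ n)
  change RingHom.ker (f ^ n) = RingHom.ker (f ^ (n + 1)) at h2
  rw [← h2, RingHom.mem_ker] at h1
  exact h1

/-- A quotient of a complete Noetherian local ring is complete. -/
theorem isAdicComplete_quotient (A : Type u) [CommRing A] [IsNoetherianRing A] [IsLocalRing A]
    [IsAdicComplete (maximalIdeal A) A] (p : Ideal A) [IsLocalRing (A ⧸ p)] :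
    IsAdicComplete (maximalIdeal (A ⧸ p)) (A ⧸ p) := by
  have h1 : IsAdicComplete (maximalIdeal A) (A ⧸ p) := by
    rw [← AdicCompletion.of_bijective_iff]
    constructor
    · exact AdicCompletion.of_injective_iff.mpr inferInstance
    · have hs : Function.Surjective (AdicCompletion.map (maximalIdeal A)
          (Submodule.mkQ p)) :=
        AdicCompletion.map_surjective _ (Submodule.mkQ_surjective p)
      intro y
      obtain ⟨x, rfl⟩ := hs y
      obtain ⟨z, rfl⟩ := (AdicCompletion.of_bijective (maximalIdeal A) A).2 x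
      refine ⟨Submodule.mkQ p z, ?_⟩
      rw [AdicCompletion.map_of]
  have h2 : (maximalIdeal A).map (algebraMap A (A ⧸ p)) = maximalIdeal (A ⧸ p) :=
    IsLocalRing.map_maximalIdeal_of_surjective _ Ideal.Quotient.mk_surjective
  rw [← h2, IsAdicComplete.map_algebraMap_iff]
  exact h1

section Field

variable {k : Type u} [Field k]

theorem mem_maximalIdeal_iff {σ : Type w} {f : MvPowerSeries σ k} :
    f ∈ maximalIdeal (MvPowerSeries σ k) ↔ constantCoeff f = 0 := by
  rw [IsLocalRing.mem_maximalIdeal, mem_nonunits_iff, MvPowerSeries.isUnit_iff_constantCoeff,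
    isUnit_iff_ne_zero, not_not]

theorem X_mem_maximalIdeal {σ : Type w} (i : σ) :
    (X i : MvPowerSeries σ k) ∈ maximalIdeal (MvPowerSeries σ k) := by
  rw [mem_maximalIdeal_iff]; simp

/-- A `k`-algebra map between local `k`-algebras whose residue field is `k` is local. -/
theorem map_mem_maximalIdeal {A : Type v} {S : Type w} [CommRing A] [CommRing S] [IsLocalRing A]
    [IsLocalRing S] [Algebra k A] [Algebra k S]
    (hS : ∀ b : S, ∃ t : k, b - algebraMap k S t ∈ maximalIdeal S) (f : A →ₐ[k] S) {a : A}
    (ha : a ∈ maximalIdeal A) : f a ∈ maximalIdeal S := by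
  obtain ⟨t, ht⟩ := hS (f a)
  by_cases h0 : t = 0
  · simpa [h0] using ht
  · exfalso
    have h1 : IsUnit (a - algebraMap k A t) := by
      by_contra hn
      have h2 : a - algebraMap k A t ∈ maximalIdeal A := hn
      have h3 : algebraMap k A t ∈ maximalIdeal A := by
        have := sub_mem ha h2
        simpa using this
      exact h3 ((IsUnit.mk0 t h0).map (algebraMap k A))
    have h4 : IsUnit (f a - algebraMap k S t) := by
      simpa using h1.map f
    exact ht h4

/-- Existence of constants for power series rings and their quotients. -/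
theorem exists_const {σ : Type w} (b : MvPowerSeries σ k) :
    ∃ t : k, b - algebraMap k _ t ∈ maximalIdeal (MvPowerSeries σ k) := by
  refine ⟨constantCoeff b, ?_⟩
  rw [mem_maximalIdeal_iff]
  simp [MvPowerSeries.algebraMap_apply]

theorem exists_const_of_surjective {A : Type v} {S : Type w} [CommRing A] [CommRing S]
    [IsLocalRing A] [IsLocalRing S] [Algebra k A] [Algebra k S] (f : A →ₐ[k] S)
    (hf : Function.Surjective f)
    (hA : ∀ b : A, ∃ t : k, b - algebraMap k A t ∈ maximalIdeal A) (b : S) :
    ∃ t : k, b - algebraMap k S t ∈ maximalIdeal S := by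
  obtain ⟨a, rfl⟩ := hf b
  obtain ⟨t, ht⟩ := hA a
  refine ⟨t, ?_⟩
  have h1 : (maximalIdeal A).map (f : A →+* S) ≤ maximalIdeal S := by
    rw [IsLocalRing.map_maximalIdeal_of_surjective (f : A →+* S) hf]
  have h2 := h1 (Ideal.mem_map_of_mem (f : A →+* S) ht)
  simpa using h2

end Field

end K813.Basic
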