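import Groth.Agent.ArSing.K813.NF
import Mathlib.RingTheory.Henselian
import Mathlib.FieldTheory.IsAlgClosed.Basic

/-!
# Square roots of units
-/

set_option autoImplicit false

namespace K813.Sqrt

open IsLocalRing K813.Basic K813.NF

universe u v

theorem exists_sq_of_complete {S : Type u} [CommRing S] [IsLocalRing S]
    [IsAdicComplete (maximalIdeal S) S] (h2 : IsUnit (2 : S)) {g c : S} (hc : IsUnit c)
    (hu : g - c ^ 2 ∈ maximalIdeal S) : ∃ v : S, v ^ 2 = g ∧ v - c ∈ maximalIdeal S := by
  have hH : HenselianRing S (maximalIdeal S) := inferInstance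
  obtain ⟨a, ha, hac⟩ := hH.is_henselian (Polynomial.X ^ 2 - Polynomial.C g)
    (Polynomial.monic_X_pow_sub_C g (by norm_num)) c (by
      simp only [Polynomial.eval_sub, Polynomial.eval_pow, Polynomial.eval_X, Polynomial.eval_C]
      rw [← neg_mem_iff, neg_sub]; exact hu) (by
      have : (Polynomial.X ^ 2 - Polynomial.C g).derivative.eval c = 2 * c := by
        simp
        ring
      rw [this]
      exact (h2.mul hc).map _)
  refine ⟨a, ?_, hac⟩
  simpa [Polynomial.IsRoot, sub_eq_zero] using ha

/-- Every unit of `k[[t]]` is a square, `k` algebraically closed with `2 ≠ 0`. -/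
theorem exists_sq_ps {k : Type u} [Field k] [IsAlgClosed k] (h2 : (2 : k) ≠ 0) (g : PowerSeries k)
    (hg : PowerSeries.constantCoeff g ≠ 0) : ∃ v : PowerSeries k, v ^ 2 = g := by
  have := isAdicComplete_ps k
  obtain ⟨c, hc⟩ := IsAlgClosed.exists_pow_nat_eq (PowerSeries.constantCoeff g) (n := 2) (by norm_num)
  have hc0 : c ≠ 0 := by
    rintro rfl
    apply hg
    rw [← hc]; ring
  have h2' : IsUnit (2 : PowerSeries k) := by
    have := (IsUnit.mk0 (2 : k) h2).map (algebraMap k (PowerSeries k))
    rwa [map_ofNat] at this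
  obtain ⟨v, hv, -⟩ := exists_sq_of_complete (S := PowerSeries k) h2' (g := g)
    (c := PowerSeries.C c) ((IsUnit.mk0 c hc0).map _) (by
      refine (mem_maximalIdeal_iff (σ := Unit)).2 ?_
      change PowerSeries.constantCoeff _ = 0
      simp [hc])
  exact ⟨v, hv⟩

/-- A square root of an invariant series is invariant. -/
theorem rescale_eq_of_sq {k : Type u} [Field k] (h2 : (2 : k) ≠ 0) {g v : PowerSeries k} {c : k}
    (hg : PowerSeries.constantCoeff g ≠ 0) (hv : v ^ 2 = g) (hc : PowerSeries.rescale c g = g) :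
    PowerSeries.rescale c v = v := by
  have hv0 : PowerSeries.constantCoeff v ≠ 0 := by
    intro h
    apply hg
    rw [← hv, map_pow, h]; ring
  have h1 : (PowerSeries.rescale c v - v) * (PowerSeries.rescale c v + v) = 0 := by
    have : PowerSeries.rescale c v ^ 2 = v ^ 2 := by rw [← map_pow, hv, hc]
    linear_combination this
  have h3 : PowerSeries.rescale c v + v ≠ 0 := by
    intro h
    have h4 := congrArg PowerSeries.constantCoeff h
    have h5 : PowerSeries.constantCoeff (PowerSeries.rescale c v) = PowerSeries.constantCoeff v := by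
      rw [← PowerSeries.coeff_zero_eq_constantCoeff_apply, PowerSeries.coeff_rescale]
      simp
    rw [map_add, h5, map_zero, ← two_mul] at h4
    rcases mul_eq_zero.1 h4 with h6 | h6
    · exact h2 h6
    · exact hv0 h6
  exact sub_eq_zero.1 ((mul_eq_zero.1 h1).resolve_right h3)

/-- Factor a nonzero series as `X ^ s` times a unit. -/
theorem exists_eq_X_pow_mul {k : Type u} [Field k] {c : PowerSeries k} (hc : c ≠ 0) :
    ∃ (s : ℕ) (g : PowerSeries k), c = PowerSeries.X ^ s * g ∧
      PowerSeries.constantCoeff g ≠ 0 := by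
  have hfin : FiniteMultiplicity (PowerSeries.X : PowerSeries k) c :=
    FiniteMultiplicity.of_prime_left PowerSeries.X_prime hc
  obtain ⟨g, hg, hX⟩ := hfin.exists_eq_pow_mul_and_not_dvd
  refine ⟨_, g, hg, fun h => hX (PowerSeries.X_dvd_iff.2 h)⟩

end K813.Sqrt
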