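import Groth.Agent.ArSing.K813.Len

/-!
# Local algebras which are free of rank two over a power series subring
-/

set_option autoImplicit false

namespace K813.TwoGen

open IsLocalRing K813.Basic K813.Len

universe u v

variable {k : Type u} [Field k] {A : Type v} [CommRing A] [IsLocalRing A] [IsNoetherianRing A]
  [Algebra k A] (hA : ∀ b : A, ∃ t : k, b - algebraMap k A t ∈ maximalIdeal A)
  (j : PowerSeries k →ₐ[k] A) {y' : A}

include hA in
theorem j_mem {p : PowerSeries k} (hp : PowerSeries.constantCoeff p = 0) :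
    j p ∈ maximalIdeal A :=
  map_mem_maximalIdeal hA j ((K813.Basic.mem_maximalIdeal_iff (σ := Unit)).2 hp)

theorem j_mem_span {p : PowerSeries k} (hp : PowerSeries.constantCoeff p = 0) :
    ∃ p', p = PowerSeries.X * p' ∧ j p = j PowerSeries.X * j p' := by
  obtain ⟨p', rfl⟩ := PowerSeries.X_dvd_iff.2 hp
  exact ⟨p', rfl, map_mul _ _ _⟩

theorem isUnit_of_constantCoeff_ne {p : PowerSeries k} (hp : PowerSeries.constantCoeff p ≠ 0) :
    IsUnit p := by
  rw [PowerSeries.isUnit_iff_constantCoeff]; exact IsUnit.mk0 _ hp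

include hA in
theorem constantCoeff_eq_zero {p : PowerSeries k} (hp : j p ∈ maximalIdeal A) :
    PowerSeries.constantCoeff p = 0 := by
  by_contra h
  exact hp ((isUnit_of_constantCoeff_ne h).map j)

variable (hm : maximalIdeal A = Ideal.span {j PowerSeries.X, y'})
  (hy2 : y' ^ 2 ∈ Ideal.span {j PowerSeries.X})

include hA hm hy2 in
theorem exists_step (a : A) : ∃ (c d : k) (a' : A),
    a = algebraMap k A c + algebraMap k A d * y' + j PowerSeries.X * a' := by
  obtain ⟨c, hc⟩ := hA a
  rw [hm, Ideal.mem_span_pair] at hc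
  obtain ⟨a₁, a₂, h1⟩ := hc
  obtain ⟨d, hd⟩ := hA a₂
  rw [hm, Ideal.mem_span_pair] at hd
  obtain ⟨b₁, b₂, h2⟩ := hd
  obtain ⟨e, he⟩ := Ideal.mem_span_singleton'.1 hy2
  exact ⟨c, d, a₁ + y' * b₁ + e * b₂, by linear_combination -h1 - y' * h2 - b₂ * he⟩

include hA hm hy2 in
/-- Existence of the representation `a = j p + j q * y'`. -/
theorem exists_rep (a : A) : ∃ p q : PowerSeries k, a = j p + j q * y' := by
  choose c d nx h using exists_step hA j hm hy2
  let P : A → PowerSeries k := fun a => PowerSeries.mk fun n => c (nx^[n] a)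
  let Q : A → PowerSeries k := fun a => PowerSeries.mk fun n => d (nx^[n] a)
  have hP : ∀ a, P a = PowerSeries.C (c a) + PowerSeries.X * P (nx a) := by
    intro a
    ext n
    rcases n with _ | n
    · simp [P]
    · rw [map_add, PowerSeries.coeff_succ_X_mul, PowerSeries.coeff_mk, PowerSeries.coeff_mk,
        PowerSeries.coeff_C, if_neg (Nat.succ_ne_zero n), zero_add, Function.iterate_succ_apply]
  have hQ : ∀ a, Q a = PowerSeries.C (d a) + PowerSeries.X * Q (nx a) := by
    intro a
    ext n
    rcases n with _ | n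
    · simp [Q]
    · rw [map_add, PowerSeries.coeff_succ_X_mul, PowerSeries.coeff_mk, PowerSeries.coeff_mk,
        PowerSeries.coeff_C, if_neg (Nat.succ_ne_zero n), zero_add, Function.iterate_succ_apply]
  have hjC : ∀ t : k, j (PowerSeries.C t) = algebraMap k A t := fun t => j.commutes t
  have hD : ∀ a, a - (j (P a) + j (Q a) * y') =
      j PowerSeries.X * (nx a - (j (P (nx a)) + j (Q (nx a)) * y')) := by
    intro a
    rw [hP a, hQ a, map_add, map_add, map_mul, map_mul, hjC, hjC]
    linear_combination h a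
  have hX : j PowerSeries.X ∈ maximalIdeal A := by
    rw [hm]; exact Ideal.subset_span (Or.inl rfl)
  have hDn : ∀ (n : ℕ) (a : A), a - (j (P a) + j (Q a) * y') ∈ maximalIdeal A ^ n := by
    intro n
    induction n with
    | zero => intro a; simp
    | succ n ih =>
      intro a
      rw [hD a, pow_succ']
      exact Ideal.mul_mem_mul hX (ih (nx a))
  refine ⟨P a, Q a, ?_⟩
  rw [← sub_eq_zero]
  refine IsHausdorff.haus' (I := maximalIdeal A) _ fun n => ?_
  rw [SModEq.zero, smul_eq_mul, Ideal.mul_top]
  exact hDn n a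

variable (hx : j PowerSeries.X ∈ nonZeroDivisors A) (hy : y' ∉ Ideal.span {j PowerSeries.X})

include hA hx hy in
/-- Uniqueness of the representation `a = j p + j q * y'`. -/
theorem rep_unique (hym : y' ∈ maximalIdeal A) {p q : PowerSeries k} (h : j p + j q * y' = 0) :
    p = 0 ∧ q = 0 := by
  have key : ∀ (n : ℕ) (p q : PowerSeries k), j p + j q * y' = 0 →
      PowerSeries.X ^ n ∣ p ∧ PowerSeries.X ^ n ∣ q := by
    intro n
    induction n with
    | zero => intro p q _; simp
    | succ n ih =>
      intro p q h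
      have hp0 : PowerSeries.constantCoeff p = 0 := by
        apply constantCoeff_eq_zero hA j
        have : j p = -(j q * y') := by linear_combination h
        rw [this, neg_mem_iff]
        exact Ideal.mul_mem_left _ _ hym
      obtain ⟨p', rfl, hp'⟩ := j_mem_span j hp0
      have hq0 : PowerSeries.constantCoeff q = 0 := by
        by_contra hne
        have hu := (isUnit_of_constantCoeff_ne hne).map j
        apply hy
        rw [← Ideal.unit_mul_mem_iff_mem _ hu, Ideal.mem_span_singleton']
        exact ⟨-j p', by linear_combination hp' - h⟩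
      obtain ⟨q', rfl, hq'⟩ := j_mem_span j hq0
      have h1 : (j p' + j q' * y') * j PowerSeries.X = 0 := by
        rw [hp', hq'] at h; linear_combination h
      have h2 : j p' + j q' * y' = 0 := (mem_nonZeroDivisors_iff_right.1 hx) _ h1
      obtain ⟨h3, h4⟩ := ih p' q' h2
      rw [pow_succ']
      exact ⟨mul_dvd_mul_left _ h3, mul_dvd_mul_left _ h4⟩
  constructor
  · ext n
    have h1 := (PowerSeries.X_pow_dvd_iff.1 (key (n + 1) p q h).1) n (Nat.lt_succ_self n)
    simpa using h1
  · ext n
    have h1 := (PowerSeries.X_pow_dvd_iff.1 (key (n + 1) p q h).2) n (Nat.lt_succ_self n)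
    simpa using h1

include hA hx hy in
theorem rep_inj (hym : y' ∈ maximalIdeal A) {p q p₁ q₁ : PowerSeries k}
    (h : j p + j q * y' = j p₁ + j q₁ * y') : p = p₁ ∧ q = q₁ := by
  have h1 : j (p - p₁) + j (q - q₁) * y' = 0 := by
    rw [map_sub, map_sub]; linear_combination h
  obtain ⟨h2, h3⟩ := rep_unique hA j hx hy hym h1
  exact ⟨sub_eq_zero.1 h2, sub_eq_zero.1 h3⟩

end K813.TwoGen
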