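import Groth.Agent.ArSing.K813.Lin
import Groth.Agent.ArSing.K813.TwoGen
import Groth.Agent.ArSing.K813.Sqrt
import Mathlib.RingTheory.Nakayama

/-!
# Involutions of the rings `ArSing.ring k r`, `r ≥ 2`
-/

set_option autoImplicit false

namespace K813.Invol

open IsLocalRing ArSing K813.NF K813.Basic K813.Ring K813.Len K813.EvOdd K813.Lin

universe u v

theorem map_mem_pow {k : Type u} [Field k] {A S : Type v} [CommRing A] [CommRing S] [IsLocalRing A]
    [IsLocalRing S] [Algebra k A] [Algebra k S]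
    (hS : ∀ b : S, ∃ t : k, b - algebraMap k S t ∈ maximalIdeal S) (f : A →ₐ[k] S) (n : ℕ) {a : A}
    (ha : a ∈ maximalIdeal A ^ n) : f a ∈ maximalIdeal S ^ n := by
  have h1 : (maximalIdeal A).map (f : A →+* S) ≤ maximalIdeal S := by
    rw [Ideal.map_le_iff_le_comap]
    intro b hb
    exact map_mem_maximalIdeal hS f hb
  have h2 := Ideal.mem_map_of_mem (f : A →+* S) ha
  rw [Ideal.map_pow] at h2
  exact Ideal.pow_right_mono h1 n h2

theorem half_add' {k : Type u} [Field k] (h2 : (2 : k) ≠ 0) {A : Type v} [CommRing A] [Algebra k A] :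
    algebraMap k A 2⁻¹ + algebraMap k A 2⁻¹ = 1 := by
  rw [← map_add, ← two_mul, mul_inv_cancel₀ h2, map_one]

variable {k : Type u} [Field k] {r : ℕ}

/-- Existence of eigencoordinates. -/
theorem exists_eigen (h2 : (2 : k) ≠ 0) (hr : 2 ≤ r)
    (σ : ring k r ≃ₐ[k] ring k r) (hσ : ∀ a, σ (σ a) = a) :
    ∃ (x' y' : ring k r) (γ β ε : k), γ ^ 2 = 1 ∧ β ^ 2 = 1 ∧
      σ x' = algebraMap k _ γ * x' ∧ σ y' = algebraMap k _ β * y' ∧
      x' - (x k r + algebraMap k _ ε * y k r) ∈ maximalIdeal (ring k r) ^ 2 ∧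
      y' - y k r ∈ maximalIdeal (ring k r) ^ 2 := by
  have hr1 : 1 ≤ r := by omega
  have hσm : ∀ {a : ring k r}, a ∈ maximalIdeal (ring k r) → σ a ∈ maximalIdeal (ring k r) :=
    fun {a} ha => map_mem_maximalIdeal (exC k r) (σ : ring k r →ₐ[k] ring k r) ha
  have hσm2 : ∀ {a : ring k r}, a ∈ maximalIdeal (ring k r) ^ 2 →
      σ a ∈ maximalIdeal (ring k r) ^ 2 :=
    fun {a} ha => map_mem_pow (exC k r) (σ : ring k r →ₐ[k] ring k r) 2 ha
  have hx : x k r ∈ maximalIdeal (ring k r) := x_mem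
  have hy : y k r ∈ maximalIdeal (ring k r) := y_mem
  obtain ⟨α, β, hβ⟩ := exists_lin hr1 (hσm hy)
  obtain ⟨γ, δ, hγ⟩ := exists_lin hr1 (hσm hx)
  -- `α = 0`
  have hα : α = 0 := by
    have h3 : σ (y k r) ^ 2 ∈ maximalIdeal (ring k r) ^ 3 := by
      rw [← map_pow, y_sq, map_pow]
      exact Ideal.pow_le_pow_right (by omega : 3 ≤ r + 1) (Ideal.pow_mem_pow (hσm hx) _)
    have h4 : (algebraMap k (ring k r) α * x k r + algebraMap k (ring k r) β * y k r) ∈
        maximalIdeal (ring k r) :=
      Ideal.add_mem _ (Ideal.mul_mem_left _ _ hx) (Ideal.mul_mem_left _ _ hy)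
    have h5 : (algebraMap k (ring k r) α * x k r + algebraMap k (ring k r) β * y k r) ^ 2 ∈
        maximalIdeal (ring k r) ^ 3 := by
      have h6 := Ideal.mul_mem_mul hβ (Ideal.add_mem _ (hσm hy) h4)
      rw [← pow_succ] at h6
      have h7 := Ideal.sub_mem _ h3 h6
      have e : (algebraMap k (ring k r) α * x k r + algebraMap k (ring k r) β * y k r) ^ 2 =
        σ (y k r) ^ 2 - (σ (y k r) - (algebraMap k (ring k r) α * x k r +
        algebraMap k (ring k r) β * y k r)) * (σ (y k r) + (algebraMap k (ring k r) α * x k r +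
        algebraMap k (ring k r) β * y k r)) := by ring
      rw [e]; exact h7
    have e : (algebraMap k (ring k r) α * x k r + algebraMap k (ring k r) β * y k r) ^ 2 =
        xMap k r (PowerSeries.C (α ^ 2) * PowerSeries.X ^ 2 +
          PowerSeries.C (β ^ 2) * PowerSeries.X ^ (r + 1)) +
        xMap k r (PowerSeries.C (2 * α * β) * PowerSeries.X) * y k r := by
      simp only [map_add, map_mul, map_pow, xMap_X, xMap_C, map_ofNat]
      rw [← y_sq]; ring
    rw [e, mem_pow_maximalIdeal hr1 2] at h5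
    have h6 := (PowerSeries.X_pow_dvd_iff.1 h5.1) 2 (by norm_num)
    rw [map_add, PowerSeries.coeff_C_mul, PowerSeries.coeff_C_mul, PowerSeries.coeff_X_pow,
      PowerSeries.coeff_X_pow, if_pos rfl, if_neg (by omega), mul_one, mul_zero, add_zero] at h6
    exact pow_eq_zero_iff (by norm_num) |>.1 h6
  rw [hα, map_zero, zero_mul, zero_add] at hβ
  have hβ2 : β ^ 2 = 1 := by
    have h3 := hσm2 hβ
    rw [map_sub, map_mul, hσ, AlgEquiv.commutes] at h3
    have h4 := Ideal.add_mem _ h3 (Ideal.mul_mem_left _ (algebraMap k (ring k r) β) hβ)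
    have h5 := lin_unique (k := k) (r := r) hr1 (α := 0) (β := 1 - β ^ 2) (by
      have e : algebraMap k (ring k r) 0 * x k r + algebraMap k (ring k r) (1 - β ^ 2) * y k r =
        y k r - algebraMap k (ring k r) β * σ (y k r) + algebraMap k (ring k r) β *
          (σ (y k r) - algebraMap k (ring k r) β * y k r) := by
        rw [map_sub, map_one, map_zero, map_pow]; ring
      rw [e]; exact h4)
    exact (sub_eq_zero.1 h5.2).symm
  have hγ2 : γ ^ 2 = 1 := by
    have h3 := hσm2 hγ
    rw [map_sub, map_add, map_mul, map_mul, hσ, AlgEquiv.commutes, AlgEquiv.commutes] at h3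
    have h4 := Ideal.add_mem _ (Ideal.add_mem _ h3
      (Ideal.mul_mem_left _ (algebraMap k (ring k r) γ) hγ))
      (Ideal.mul_mem_left _ (algebraMap k (ring k r) δ) hβ)
    have h5 := lin_unique (k := k) (r := r) hr1 (α := 1 - γ ^ 2) (β := -γ * δ - δ * β) (by
      have e : algebraMap k (ring k r) (1 - γ ^ 2) * x k r +
        algebraMap k (ring k r) (-γ * δ - δ * β) * y k r =
        x k r - (algebraMap k (ring k r) γ * σ (x k r) + algebraMap k (ring k r) δ * σ (y k r)) +
        algebraMap k (ring k r) γ * (σ (x k r) - (algebraMap k (ring k r) γ * x k r +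
          algebraMap k (ring k r) δ * y k r)) + algebraMap k (ring k r) δ *
          (σ (y k r) - algebraMap k (ring k r) β * y k r) := by
        simp only [map_sub, map_one, map_pow, map_mul, map_neg]; ring
      rw [e]; exact h4)
    exact (sub_eq_zero.1 h5.1).symm
  have hh := half_add' (k := k) (A := ring k r) h2
  have hγγ : algebraMap k (ring k r) γ * algebraMap k (ring k r) γ = 1 := by
    rw [← map_mul, ← sq, hγ2, map_one]
  have hββ : algebraMap k (ring k r) β * algebraMap k (ring k r) β = 1 := by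
    rw [← map_mul, ← sq, hβ2, map_one]
  refine ⟨algebraMap k (ring k r) 2⁻¹ * (x k r + algebraMap k (ring k r) γ * σ (x k r)),
    algebraMap k (ring k r) 2⁻¹ * (y k r + algebraMap k (ring k r) β * σ (y k r)),
    γ, β, 2⁻¹ * γ * δ, hγ2, hβ2, ?_, ?_, ?_, ?_⟩
  · rw [map_mul, map_add, map_mul, hσ, AlgEquiv.commutes, AlgEquiv.commutes]
    linear_combination (-(algebraMap k (ring k r) 2⁻¹ * σ (x k r))) * hγγ
  · rw [map_mul, map_add, map_mul, hσ, AlgEquiv.commutes, AlgEquiv.commutes]
    linear_combination (-(algebraMap k (ring k r) 2⁻¹ * σ (y k r))) * hββ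
  · have h3 := Ideal.mul_mem_left _ (algebraMap k (ring k r) 2⁻¹ * algebraMap k (ring k r) γ) hγ
    have e : algebraMap k (ring k r) 2⁻¹ * (x k r + algebraMap k (ring k r) γ * σ (x k r)) -
        (x k r + algebraMap k (ring k r) (2⁻¹ * γ * δ) * y k r) =
        algebraMap k (ring k r) 2⁻¹ * algebraMap k (ring k r) γ *
        (σ (x k r) - (algebraMap k (ring k r) γ * x k r + algebraMap k (ring k r) δ * y k r)) := by
      rw [map_mul, map_mul]
      linear_combination (algebraMap k (ring k r) 2⁻¹ * x k r) * hγγ + x k r * hh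
    rw [e]; exact h3
  · have h3 := Ideal.mul_mem_left _ (algebraMap k (ring k r) 2⁻¹ * algebraMap k (ring k r) β) hβ
    have e : algebraMap k (ring k r) 2⁻¹ * (y k r + algebraMap k (ring k r) β * σ (y k r)) - y k r =
        algebraMap k (ring k r) 2⁻¹ * algebraMap k (ring k r) β *
        (σ (y k r) - algebraMap k (ring k r) β * y k r) := by
      linear_combination (algebraMap k (ring k r) 2⁻¹ * y k r) * hββ + y k r * hh
    rw [e]; exact h3

/-- In a Noetherian local ring, elements generating `m` modulo `m^2` generate `m`. -/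
theorem eq_span_of_le {A : Type u} [CommRing A] [IsLocalRing A] [IsNoetherianRing A] {I : Ideal A}
    (hI : I ≤ maximalIdeal A) (h : maximalIdeal A ≤ I ⊔ maximalIdeal A ^ 2) :
    maximalIdeal A = I := by
  refine le_antisymm ?_ hI
  refine Submodule.le_of_le_smul_of_le_jacobson_bot (I := maximalIdeal A)
    (IsNoetherian.noetherian _) (IsLocalRing.maximalIdeal_le_jacobson _) ?_
  rw [smul_eq_mul, ← sq]
  exact h

/-- If `m = (x', y')` and `y'^2 ∈ m^3` then `y'^2 ∈ (x')`. -/
theorem sq_mem_span {A : Type u} [CommRing A] [IsLocalRing A] {x' y' : A}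
    (hm : maximalIdeal A = Ideal.span {x', y'}) (h : y' ^ 2 ∈ maximalIdeal A ^ 3) :
    y' ^ 2 ∈ Ideal.span {x'} := by
  have h1 : (maximalIdeal A).map (Ideal.Quotient.mk (Ideal.span {x'})) =
      Ideal.span {Ideal.Quotient.mk (Ideal.span {x'}) y'} := by
    rw [hm, Ideal.map_span, Set.image_pair]
    have : Ideal.Quotient.mk (Ideal.span {x'}) x' = 0 :=
      Ideal.Quotient.eq_zero_iff_mem.2 (Ideal.subset_span rfl)
    rw [this, Ideal.span_insert_zero]
  have h2 := Ideal.mem_map_of_mem (Ideal.Quotient.mk (Ideal.span {x'})) h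
  rw [Ideal.map_pow, h1, Ideal.span_singleton_pow, Ideal.mem_span_singleton'] at h2
  obtain ⟨c, hc⟩ := h2
  obtain ⟨c, rfl⟩ := Ideal.Quotient.mk_surjective c
  rw [← map_pow, ← map_mul, Ideal.Quotient.eq] at hc
  have hy : y' ∈ maximalIdeal A := by rw [hm]; exact Ideal.subset_span (Or.inr rfl)
  have hu : IsUnit (c * y' - 1) := by
    by_contra hn
    have h3 : c * y' - 1 ∈ maximalIdeal A := hn
    have h4 := Ideal.sub_mem _ (Ideal.mul_mem_left _ c hy) h3
    rw [sub_sub_cancel] at h4
    exact (Ideal.ne_top_iff_one _).1 Ideal.IsPrime.ne_top' h4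
  rw [← Ideal.unit_mul_mem_iff_mem _ hu]
  have e : (c * y' - 1) * y' ^ 2 = c * y' ^ 3 - y' ^ 2 := by ring
  rw [e]; exact hc

end K813.Invol
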