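import Groth.Agent.ArSing.K813.FlatInj
import Groth.Agent.ArSing.K813.Invol

/-!
# Equivariant deformations of a node: correcting approximate coordinates
-/

set_option autoImplicit false

namespace K813.EquivNode

open IsLocalRing

universe u

variable {k R S : Type u} [Field k] [CommRing R] [IsLocalRing R] [CommRing S] [IsLocalRing S]
  [Algebra k R] [Algebra R S] [Algebra k S] [IsScalarTower k R S]

/-- The extension of the maximal ideal of `R`. -/
abbrev nn (R S : Type u) [CommRing R] [IsLocalRing R] [CommRing S] [Algebra R S] : Ideal S :=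
  Ideal.map (algebraMap R S) (maximalIdeal R)

theorem nn_le [IsLocalHom (algebraMap R S)] : nn R S ≤ maximalIdeal S := by
  rw [nn, Ideal.map_le_iff_le_comap]
  intro r hr
  exact (IsLocalRing.mem_maximalIdeal _).2 (fun h => hr (isUnit_of_map_unit (algebraMap R S) _ h))

theorem decomp (hres : ∀ s : S, ∃ c : k, s - algebraMap k S c ∈ maximalIdeal S) {u v : S}
    (hm : maximalIdeal S ≤ Ideal.span {u, v} ⊔ nn R S) (n : ℕ) {s : S} (hs : s ∈ nn R S ^ n) :
    ∃ r ∈ maximalIdeal R ^ n, ∃ p ∈ nn R S ^ n, ∃ q ∈ nn R S ^ n,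
      s - (algebraMap R S r + u * p + v * q) ∈ nn R S ^ (n + 1) := by
  have hs' := hs
  rw [nn, ← Ideal.map_pow] at hs'
  have hmem : ∀ {r : R} (m : ℕ), r ∈ maximalIdeal R ^ m → algebraMap R S r ∈ nn R S ^ m := by
    intro r m hr
    rw [nn, ← Ideal.map_pow]
    exact Ideal.mem_map_of_mem _ hr
  refine Submodule.span_induction (p := fun s _ => ∃ r ∈ maximalIdeal R ^ n, ∃ p ∈ nn R S ^ n,
    ∃ q ∈ nn R S ^ n, s - (algebraMap R S r + u * p + v * q) ∈ nn R S ^ (n + 1))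
    ?_ ?_ ?_ ?_ hs'
  · rintro _ ⟨a, ha, rfl⟩
    exact ⟨a, ha, 0, Ideal.zero_mem _, 0, Ideal.zero_mem _, by simp⟩
  · exact ⟨0, Ideal.zero_mem _, 0, Ideal.zero_mem _, 0, Ideal.zero_mem _, by simp⟩
  · rintro x y _ _ ⟨r, hr, p, hp, q, hq, h⟩ ⟨r', hr', p', hp', q', hq', h'⟩
    refine ⟨r + r', Ideal.add_mem _ hr hr', p + p', Ideal.add_mem _ hp hp', q + q',
      Ideal.add_mem _ hq hq', ?_⟩
    have h3 := Ideal.add_mem _ h h'
    have e : x + y - (algebraMap R S (r + r') + u * (p + p') + v * (q + q')) =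
      (x - (algebraMap R S r + u * p + v * q)) + (y - (algebraMap R S r' + u * p' + v * q')) := by
      rw [map_add]; ring
    rw [e]; exact h3
  · rintro a x _ ⟨r, hr, p, hp, q, hq, h⟩
    obtain ⟨c, hc⟩ := hres a
    obtain ⟨z, hz, w, hw, hzw⟩ := Submodule.mem_sup.1 (hm hc)
    obtain ⟨z₁, z₂, rfl⟩ := Ideal.mem_span_pair.1 hz
    refine ⟨algebraMap k R c * r, Ideal.mul_mem_left _ _ hr, a * p + z₁ * algebraMap R S r,
      Ideal.add_mem _ (Ideal.mul_mem_left _ _ hp) (Ideal.mul_mem_left _ _ (hmem n hr)),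
      a * q + z₂ * algebraMap R S r,
      Ideal.add_mem _ (Ideal.mul_mem_left _ _ hq) (Ideal.mul_mem_left _ _ (hmem n hr)), ?_⟩
    have h3 : w * algebraMap R S r ∈ nn R S ^ (n + 1) := by
      rw [pow_succ']
      exact Ideal.mul_mem_mul hw (hmem n hr)
    have h4 := Ideal.add_mem _ (Ideal.mul_mem_left _ a h) h3
    have e : a • x - (algebraMap R S (algebraMap k R c * r) + u * (a * p + z₁ * algebraMap R S r) +
        v * (a * q + z₂ * algebraMap R S r)) =
      a * (x - (algebraMap R S r + u * p + v * q)) + w * algebraMap R S r := by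
      rw [smul_eq_mul, map_mul, ← IsScalarTower.algebraMap_apply]
      linear_combination (-algebraMap R S r) * hzw
    rw [e]; exact h4

theorem map_nn_pow (σ : S ≃ₐ[R] S) (n : ℕ) {s : S} (hs : s ∈ nn R S ^ n) : σ s ∈ nn R S ^ n := by
  have h1 : (nn R S ^ n).map (σ : S →+* S) ≤ nn R S ^ n := by
    rw [nn, ← Ideal.map_pow, Ideal.map_map]
    have : ((σ : S →+* S)).comp (algebraMap R S) = algebraMap R S := by
      ext r; exact σ.commutes r
    rw [this]
  exact h1 (Ideal.mem_map_of_mem (σ : S →+* S) hs)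

/-- `k`-linearity of `σ`. -/
theorem map_k (σ : S ≃ₐ[R] S) (c : k) : σ (algebraMap k S c) = algebraMap k S c := by
  rw [IsScalarTower.algebraMap_apply k R S, σ.commutes]

/-- The invariants of the approximation process. -/
structure Good (σ : S ≃ₐ[R] S) (u₁ v₁ : S) (ξ₁ ξ₂ : k) (n : ℕ) (x : S × S × R) : Prop where
  hu : x.1 - u₁ ∈ nn R S
  hv : x.2.1 - v₁ ∈ nn R S
  su : σ x.1 = algebraMap k S ξ₂ * x.1
  sv : σ x.2.1 = algebraMap k S ξ₁ * x.2.1
  ht : x.2.2 ∈ maximalIdeal R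
  he : x.1 * x.2.1 - algebraMap R S x.2.2 ∈ nn R S ^ n
  h0 : ξ₁ = -ξ₂ → x.2.2 = 0

theorem Good.span_le {σ : S ≃ₐ[R] S} {u₁ v₁ : S} {ξ₁ ξ₂ : k} {n : ℕ} {x : S × S × R}
    (h : Good σ u₁ v₁ ξ₁ ξ₂ n x) (hm : maximalIdeal S ≤ Ideal.span {u₁, v₁} ⊔ nn R S) :
    maximalIdeal S ≤ Ideal.span {x.1, x.2.1} ⊔ nn R S := by
  refine hm.trans (sup_le ?_ le_sup_right)
  rw [Ideal.span_le]
  rintro z (rfl | rfl)
  · have h1 : z = x.1 + -(x.1 - z) := by ring
    rw [h1]
    exact Submodule.add_mem_sup (Ideal.subset_span (by simp)) (neg_mem h.hu)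
  · have h1 : z = x.2.1 + -(x.2.1 - z) := by ring
    rw [h1]
    exact Submodule.add_mem_sup (Ideal.subset_span (by simp)) (neg_mem h.hv)

theorem step (h2 : (2 : k) ≠ 0) (σ : S ≃ₐ[R] S) (hσ : ∀ s, σ (σ s) = s)
    (hres : ∀ s : S, ∃ c : k, s - algebraMap k S c ∈ maximalIdeal S)
    {u₁ v₁ : S} {ξ₁ ξ₂ : k} (h1s : ξ₁ ^ 2 = 1) (h2s : ξ₂ ^ 2 = 1)
    (hm : maximalIdeal S ≤ Ideal.span {u₁, v₁} ⊔ nn R S) {n : ℕ} (hn : 1 ≤ n) (x : S × S × R)
    (hx : Good σ u₁ v₁ ξ₁ ξ₂ n x) : ∃ y : S × S × R, Good σ u₁ v₁ ξ₁ ξ₂ (n + 1) y ∧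
      y.1 - x.1 ∈ nn R S ^ n ∧ y.2.1 - x.2.1 ∈ nn R S ^ n ∧
      y.2.2 - x.2.2 ∈ maximalIdeal R ^ n := by
  have hm' := hx.span_le hm
  obtain ⟨hu, hv, su, sv, ht, he, h0⟩ := hx
  obtain ⟨u, v, t⟩ := x
  simp only at hu hv su sv ht he h0 hm' ⊢
  obtain ⟨r, hr, p, hp, q, hq, hε⟩ := decomp hres hm' n he
  -- constants
  set c₁ := algebraMap k S ξ₁ with hc₁
  set c₂ := algebraMap k S ξ₂ with hc₂
  set d := algebraMap k S 2⁻¹ with hd
  have e1 : c₁ * c₁ = 1 := by rw [hc₁, ← map_mul, ← sq, h1s, map_one]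
  have e2 : c₂ * c₂ = 1 := by rw [hc₂, ← map_mul, ← sq, h2s, map_one]
  have e3 : d + d = 1 := K813.Invol.half_add' h2
  have s1 : σ c₁ = c₁ := map_k σ ξ₁
  have s2 : σ c₂ = c₂ := map_k σ ξ₂
  have sd : σ d = d := map_k σ 2⁻¹
  set ε := u * v - algebraMap R S t - (algebraMap R S r + u * p + v * q) with hεdef
  set p' := d * (p + c₁ * σ p) with hp'
  set q' := d * (q + c₂ * σ q) with hq'
  have sp' : σ p' = c₁ * p' := by
    rw [hp', map_mul, map_add, map_mul, hσ, s1, sd]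
    linear_combination (-d * σ p) * e1
  have sq' : σ q' = c₂ * q' := by
    rw [hq', map_mul, map_add, map_mul, hσ, s2, sd]
    linear_combination (-d * σ q) * e2
  have hp'm : p' ∈ nn R S ^ n := Ideal.mul_mem_left _ _ (Ideal.add_mem _ hp
    (Ideal.mul_mem_left _ _ (map_nn_pow σ n hp)))
  have hq'm : q' ∈ nn R S ^ n := Ideal.mul_mem_left _ _ (Ideal.add_mem _ hq
    (Ideal.mul_mem_left _ _ (map_nn_pow σ n hq)))
  have hηt : c₁ * c₂ * algebraMap R S t = algebraMap R S t := by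
    have h3 : (ξ₁ - ξ₂) * (ξ₁ + ξ₂) = 0 := by linear_combination h1s - h2s
    rcases mul_eq_zero.1 h3 with h4 | h4
    · have h5 : ξ₁ = ξ₂ := sub_eq_zero.1 h4
      rw [hc₁, h5, ← hc₂, e2, one_mul]
    · have h5 : ξ₁ = -ξ₂ := eq_neg_of_add_eq_zero_left h4
      rw [h0 h5, map_zero, mul_zero]
  -- the averaged equation
  have hE : u * v - algebraMap R S t = d * (1 + c₁ * c₂) * algebraMap R S r + u * p' + v * q' +
      d * (ε + c₁ * c₂ * σ ε) := by
    have h3 : σ ε = c₁ * c₂ * (u * v) - algebraMap R S t -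
        (algebraMap R S r + c₂ * u * σ p + c₁ * v * σ q) := by
      rw [hεdef]
      simp only [map_sub, map_add, map_mul, su, sv, AlgEquiv.commutes]
      ring
    rw [h3, hεdef, hp', hq']
    linear_combination (algebraMap R S t - u * v) * e3 + d * hηt +
      (d * c₁ * u * σ p - d * u * v) * e2 + (d * c₂ * v * σ q - u * v * d * c₂ ^ 2) * e1
  have hεm : d * (ε + c₁ * c₂ * σ ε) ∈ nn R S ^ (n + 1) :=
    Ideal.mul_mem_left _ _ (Ideal.add_mem _ hε
      (Ideal.mul_mem_left _ _ (map_nn_pow σ (n + 1) hε)))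
  have hpq : p' * q' ∈ nn R S ^ (n + 1) := by
    have h3 := Ideal.mul_mem_mul hp'm hq'm
    rw [← pow_add] at h3
    exact Ideal.pow_le_pow_right (by omega) h3
  have hn0 : n ≠ 0 := by omega
  set r' := algebraMap k R (2⁻¹ * (1 + ξ₁ * ξ₂)) * r with hr'
  have hr'm : r' ∈ maximalIdeal R ^ n := Ideal.mul_mem_left _ _ hr
  have hr'S : algebraMap R S r' = d * (1 + c₁ * c₂) * algebraMap R S r := by
    rw [hr', map_mul, ← IsScalarTower.algebraMap_apply, map_mul, map_add, map_one, map_mul]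
  refine ⟨(u - q', v - p', t + r'), ⟨?_, ?_, ?_, ?_, ?_, ?_, ?_⟩, ?_, ?_, ?_⟩
  · change u - q' - u₁ ∈ _
    have e : u - q' - u₁ = (u - u₁) - q' := by ring
    rw [e]
    exact Ideal.sub_mem _ hu (Ideal.pow_le_self hn0 hq'm)
  · change v - p' - v₁ ∈ _
    have e : v - p' - v₁ = (v - v₁) - p' := by ring
    rw [e]
    exact Ideal.sub_mem _ hv (Ideal.pow_le_self hn0 hp'm)
  · change σ (u - q') = c₂ * (u - q')
    rw [map_sub, su, sq']; ring
  · change σ (v - p') = c₁ * (v - p')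
    rw [map_sub, sv, sp']; ring
  · exact Ideal.add_mem _ ht (Ideal.pow_le_self hn0 hr'm)
  · change (u - q') * (v - p') - algebraMap R S (t + r') ∈ _
    have e : (u - q') * (v - p') - algebraMap R S (t + r') =
        d * (ε + c₁ * c₂ * σ ε) + p' * q' := by
      rw [map_add, hr'S]
      linear_combination hE
    rw [e]
    exact Ideal.add_mem _ hεm hpq
  · intro h
    change t + r' = 0
    have h3 : (1 : k) + ξ₁ * ξ₂ = 0 := by rw [h]; linear_combination -h2s
    rw [h0 h, hr', h3, mul_zero, map_zero, zero_mul, add_zero]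
  · change u - q' - u ∈ _
    have e : u - q' - u = -q' := by ring
    rw [e]; exact neg_mem hq'm
  · change v - p' - v ∈ _
    have e : v - p' - v = -p' := by ring
    rw [e]; exact neg_mem hp'm
  · change t + r' - t ∈ _
    rw [add_sub_cancel_left]; exact hr'm

theorem exists_seq {X : Type u} (P : ℕ → X → Prop) (Rl : ℕ → X → X → Prop) (x0 : X) (h0 : P 0 x0)
    (hs : ∀ n x, P n x → ∃ y, P (n + 1) y ∧ Rl n x y) :
    ∃ f : ℕ → X, ∀ n, P n (f n) ∧ Rl n (f n) (f (n + 1)) := by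
  choose g hg1 hg2 using hs
  let F : ∀ n, {x // P n x} := fun n => Nat.rec ⟨x0, h0⟩ (fun n x => ⟨g n x.1 x.2, hg1 n x.1 x.2⟩) n
  exact ⟨fun n => (F n).1, fun n => ⟨(F n).2, hg2 n (F n).1 (F n).2⟩⟩

/-- The exact solution. -/
theorem exists_uvt [IsNoetherianRing S] [IsLocalHom (algebraMap R S)]
    [IsAdicComplete (maximalIdeal R) R] [IsAdicComplete (maximalIdeal S) S]
    (h2 : (2 : k) ≠ 0) (σ : S ≃ₐ[R] S) (hσ : ∀ s, σ (σ s) = s)
    (hres : ∀ s : S, ∃ c : k, s - algebraMap k S c ∈ maximalIdeal S)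
    {u₁ v₁ : S} {ξ₁ ξ₂ : k} (h1s : ξ₁ ^ 2 = 1) (h2s : ξ₂ ^ 2 = 1)
    (su : σ u₁ = algebraMap k S ξ₂ * u₁) (sv : σ v₁ = algebraMap k S ξ₁ * v₁)
    (huv : u₁ * v₁ ∈ nn R S)
    (hm : maximalIdeal S ≤ Ideal.span {u₁, v₁} ⊔ nn R S)
    (hum : u₁ ∈ maximalIdeal S) (hvm : v₁ ∈ maximalIdeal S) :
    ∃ (u v : S) (t : R), σ u = algebraMap k S ξ₂ * u ∧ σ v = algebraMap k S ξ₁ * v ∧
      t ∈ maximalIdeal R ∧ u * v = algebraMap R S t ∧ (ξ₁ = -ξ₂ → t = 0) ∧
      u ∈ maximalIdeal S ∧ v ∈ maximalIdeal S ∧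
      maximalIdeal S ≤ Ideal.span {u, v} ⊔ nn R S := by
  have hle : nn R S ≤ maximalIdeal S := nn_le
  obtain ⟨f, hf⟩ := exists_seq (fun n x => Good σ u₁ v₁ ξ₁ ξ₂ (n + 1) x)
    (fun n x y => y.1 - x.1 ∈ nn R S ^ (n + 1) ∧ y.2.1 - x.2.1 ∈ nn R S ^ (n + 1) ∧
      y.2.2 - x.2.2 ∈ maximalIdeal R ^ (n + 1)) (u₁, v₁, 0)
    ⟨by simp, by simp, su, sv, Ideal.zero_mem _, by simpa using huv, fun _ => rfl⟩
    (fun n x hx => step h2 σ hσ hres h1s h2s hm (by omega) x hx)
  have hle' : ∀ n, nn R S ^ (n + 1) ≤ maximalIdeal S ^ n := fun n =>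
    (Ideal.pow_le_pow_right (Nat.le_succ n)).trans (Ideal.pow_right_mono hle n)
  obtain ⟨u, hu⟩ := FlatInj.exists_limit (maximalIdeal S) (fun n => (f n).1)
    (fun n => hle' n (hf n).2.1)
  obtain ⟨v, hv⟩ := FlatInj.exists_limit (maximalIdeal S) (fun n => (f n).2.1)
    (fun n => hle' n (hf n).2.2.1)
  obtain ⟨t, ht⟩ := FlatInj.exists_limit (maximalIdeal R) (fun n => (f n).2.2)
    (fun n => Ideal.pow_le_pow_right (Nat.le_succ n) (hf n).2.2.2)
  have hσm : ∀ n (s : S), s ∈ maximalIdeal S ^ n → σ s ∈ maximalIdeal S ^ n := by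
    intro n s hs
    have h1 : (maximalIdeal S).map (σ : S →+* S) ≤ maximalIdeal S := by
      rw [Ideal.map_le_iff_le_comap]
      intro z hz
      rw [Ideal.mem_comap, IsLocalRing.mem_maximalIdeal, mem_nonunits_iff]
      intro h
      exact hz ((MulEquiv.isUnit_map (σ : S ≃* S)).1 h)
    have h3 := Ideal.mem_map_of_mem (σ : S →+* S) hs
    rw [Ideal.map_pow] at h3
    exact Ideal.pow_right_mono h1 n h3
  have htm : t ∈ maximalIdeal R := by
    have h1 := ht 1
    rw [pow_one] at h1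
    have h3 := Ideal.add_mem _ h1 (hf 1).1.ht
    rwa [sub_add_cancel] at h3
  have hmapt : ∀ (n : ℕ) (r : R), r ∈ maximalIdeal R ^ n → algebraMap R S r ∈
      maximalIdeal S ^ n := by
    intro n r hr
    have h3 := Ideal.mem_map_of_mem (algebraMap R S) hr
    rw [Ideal.map_pow] at h3
    exact Ideal.pow_right_mono hle n h3
  have hum' : u ∈ maximalIdeal S := by
    have h1 := hu 1
    rw [pow_one] at h1
    have h3 := Ideal.add_mem _ h1 (Ideal.add_mem _ (hle (hf 1).1.hu) hum)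
    simpa using h3
  have hvm' : v ∈ maximalIdeal S := by
    have h1 := hv 1
    rw [pow_one] at h1
    have h3 := Ideal.add_mem _ h1 (Ideal.add_mem _ (hle (hf 1).1.hv) hvm)
    simpa using h3
  refine ⟨u, v, t, ?_, ?_, htm, ?_, ?_, hum', hvm', ?_⟩
  · rw [← sub_eq_zero]
    refine FlatInj.eq_zero_of_mem_pow (maximalIdeal S) fun n => ?_
    have h1 := Ideal.sub_mem _ (hσm n _ (hu n))
      (Ideal.mul_mem_left _ (algebraMap k S ξ₂) (hu n))
    have h3 := (hf n).1.su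
    rw [map_sub] at h1
    have e : σ u - algebraMap k S ξ₂ * u = σ u - σ (f n).1 -
      algebraMap k S ξ₂ * (u - (f n).1) := by
      rw [h3]; ring
    rw [e]; exact h1
  · rw [← sub_eq_zero]
    refine FlatInj.eq_zero_of_mem_pow (maximalIdeal S) fun n => ?_
    have h1 := Ideal.sub_mem _ (hσm n _ (hv n))
      (Ideal.mul_mem_left _ (algebraMap k S ξ₁) (hv n))
    have h3 := (hf n).1.sv
    rw [map_sub] at h1
    have e : σ v - algebraMap k S ξ₁ * v = σ v - σ (f n).2.1 -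
      algebraMap k S ξ₁ * (v - (f n).2.1) := by
      rw [h3]; ring
    rw [e]; exact h1
  · rw [← sub_eq_zero]
    refine FlatInj.eq_zero_of_mem_pow (maximalIdeal S) fun n => ?_
    have h1 := Ideal.mul_mem_right v _ (hu n)
    have h3 := Ideal.mul_mem_left _ (f n).1 (hv n)
    have h4 := hmapt n _ (ht n)
    have h5 := hle' n (hf n).1.he
    have h6 := Ideal.sub_mem _ (Ideal.add_mem _ (Ideal.add_mem _ h1 h3) h5) h4
    have e : u * v - algebraMap R S t = (u - (f n).1) * v + (f n).1 * (v - (f n).2.1) +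
      ((f n).1 * (f n).2.1 - algebraMap R S (f n).2.2) - algebraMap R S (t - (f n).2.2) := by
      rw [map_sub]; ring
    rw [e]; exact h6
  · intro h
    refine FlatInj.eq_zero_of_mem_pow (maximalIdeal R) fun n => ?_
    have h1 := ht n
    simp only [(hf n).1.h0 h, sub_zero] at h1
    exact h1
  · have h1 := (hf 2).1.span_le hm
    have hI : Ideal.span {u, v} ⊔ nn R S ≤ maximalIdeal S := by
      refine sup_le ?_ hle
      rw [Ideal.span_le]
      rintro z (rfl | rfl)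
      · exact hum'
      · exact hvm'
    have h3 : maximalIdeal S ≤ (Ideal.span {u, v} ⊔ nn R S) ⊔ maximalIdeal S ^ 2 := by
      refine h1.trans (sup_le ?_ (le_sup_right.trans le_sup_left))
      rw [Ideal.span_le]
      rintro z (rfl | rfl)
      · have e : (f 2).1 = u + -(u - (f 2).1) := by ring
        rw [e]
        exact Submodule.add_mem_sup (Ideal.mem_sup_left (Ideal.subset_span (by simp)))
          (neg_mem (hu 2))
      · have e : (f 2).2.1 = v + -(v - (f 2).2.1) := by ring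
        rw [e]
        exact Submodule.add_mem_sup (Ideal.mem_sup_left (Ideal.subset_span (by simp)))
          (neg_mem (hv 2))
    exact (K813.Invol.eq_span_of_le hI h3).le

end K813.EquivNode
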