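import Groth.Agent.ArSing.K813.Invol
import Mathlib.RingTheory.MvPowerSeries.Order

/-!
# The power series ring in two variables over a field: automorphisms and isomorphisms of quotients
-/

set_option autoImplicit false

namespace K813.Pow2

open MvPowerSeries IsLocalRing K813.Basic

universe u v

variable {k : Type u} [Field k]

theorem maximalIdeal_eq :
    maximalIdeal (MvPowerSeries (Fin 2) k) = Ideal.span {X 0, X 1} := by
  have h : Set.range (X : Fin 2 → MvPowerSeries (Fin 2) k) = {X 0, X 1} := by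
    ext f
    simp [Fin.exists_fin_two, eq_comm]
  rw [Groth.Agent.Ega41.MvPS.maximalIdeal_eq, Groth.Agent.Ega41.MvPS.varIdeal, h]

/-- Membership in powers of the maximal ideal of a power series ring. -/
theorem mem_pow_iff {σ : Type} [Finite σ] (n : ℕ) {F : MvPowerSeries σ k} :
    F ∈ maximalIdeal (MvPowerSeries σ k) ^ n ↔ ∀ d : σ →₀ ℕ, d.degree < n → coeff d F = 0 := by
  classical
  constructor
  · intro h
    suffices h1 : (n : ℕ∞) ≤ F.order from
      fun d hd => coeff_of_lt_order (lt_of_lt_of_le (by exact_mod_cast hd) h1)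
    induction n generalizing F with
    | zero => simp
    | succ n ih =>
      rw [pow_succ] at h
      refine Submodule.mul_induction_on h ?_ ?_
      · intro a ha b hb
        refine le_trans ?_ le_order_mul
        have h2 : ((1 : ℕ) : ℕ∞) ≤ b.order := by
          refine nat_le_order fun d hd => ?_
          have : d = 0 := by
            rw [Nat.lt_one_iff, Finsupp.degree_eq_zero_iff] at hd
            exact hd
          rw [this]
          exact mem_maximalIdeal_iff.1 hb
        rw [Nat.cast_succ]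
        exact add_le_add (ih ha) (by simpa using h2)
      · intro a b ha hb
        exact le_trans (le_min ha hb) min_order_le_add
  · intro h
    rw [Groth.Agent.Ega41.MvPS.maximalIdeal_eq]
    apply Groth.Agent.Ega41.MvPS.mem_varIdeal_pow_of_truncTotal_eq_zero
    ext x
    by_cases hx : x.degree < n
    · rw [coeff_truncTotal _ hx, MvPolynomial.coeff_zero, h x hx]
    · rw [coeff_truncTotal_eq_zero _ (not_lt.mp hx), MvPolynomial.coeff_zero]

/-- Two generators of the maximal ideal of `k[[x,y]]` are the images of the variables under an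
automorphism. -/
theorem exists_aut {a b : MvPowerSeries (Fin 2) k}
    (h : maximalIdeal (MvPowerSeries (Fin 2) k) = Ideal.span {a, b}) :
    ∃ ψ : MvPowerSeries (Fin 2) k ≃ₐ[k] MvPowerSeries (Fin 2) k, ψ (X 0) = a ∧ ψ (X 1) = b := by
  have hcomp : IsAdicComplete (maximalIdeal (MvPowerSeries (Fin 2) k)) (MvPowerSeries (Fin 2) k) :=
    Groth.Agent.Ega41.MvPS.isAdicComplete_maximalIdeal k
  have hnoeth : IsNoetherianRing (MvPowerSeries (Fin 2) k) := inferInstance
  obtain ⟨f, hf⟩ := exists_algHom (R := k) (maximalIdeal (MvPowerSeries (Fin 2) k)) ![a, b] (by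
    intro i
    rw [h]
    refine Ideal.subset_span ?_
    fin_cases i <;> simp)
  have h0 : f (X 0) = a := hf 0
  have h1 : f (X 1) = b := hf 1
  have hs : Function.Surjective f := by
    refine surjective_of_span (maximalIdeal (MvPowerSeries (Fin 2) k)) f ?_ ?_ exists_const
    · rw [h]
      refine Ideal.span_mono ?_
      intro z hz
      rcases hz with rfl | rfl
      · exact ⟨0, h0⟩
      · exact ⟨1, h1⟩
    · intro i
      rw [h, hf]
      refine Ideal.subset_span ?_
      fin_cases i <;> simp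
  have hi : Function.Injective f :=
    injective_of_surjective_ringEnd (f : MvPowerSeries (Fin 2) k →+* MvPowerSeries (Fin 2) k) hs
  exact ⟨AlgEquiv.ofBijective f ⟨hi, hs⟩, h0, h1⟩

theorem isLocalRing_quot {F : MvPowerSeries (Fin 2) k}
    (hF : F ∈ maximalIdeal (MvPowerSeries (Fin 2) k)) :
    IsLocalRing (MvPowerSeries (Fin 2) k ⧸ Ideal.span {F}) := by
  have : Nontrivial (MvPowerSeries (Fin 2) k ⧸ Ideal.span {F}) := by
    rw [Ideal.Quotient.nontrivial_iff]
    intro h
    rw [Ideal.eq_top_iff_one] at h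
    have h1 : Ideal.span {F} ≤ maximalIdeal (MvPowerSeries (Fin 2) k) := by
      rw [Ideal.span_singleton_le_iff_mem]; exact hF
    exact (Ideal.ne_top_iff_one _).1 (IsLocalRing.maximalIdeal.isMaximal _).ne_top (h1 h)
  exact IsLocalRing.of_surjective' (Ideal.Quotient.mk _) Ideal.Quotient.mk_surjective

/-- An isomorphism of quotients of `k[[x,y]]` by principal ideals, one of them in `m^2`, comes from
an automorphism. -/
theorem exists_lift {F G : MvPowerSeries (Fin 2) k}
    (hF : F ∈ maximalIdeal (MvPowerSeries (Fin 2) k) ^ 2)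
    (e : (MvPowerSeries (Fin 2) k ⧸ Ideal.span {G}) ≃ₐ[k]
      (MvPowerSeries (Fin 2) k ⧸ Ideal.span {F})) :
    ∃ φ : MvPowerSeries (Fin 2) k ≃ₐ[k] MvPowerSeries (Fin 2) k,
      Ideal.span {φ G} = Ideal.span {F} := by
  have hnoeth : IsNoetherianRing (MvPowerSeries (Fin 2) k) := inferInstance
  have hcomp : IsAdicComplete (maximalIdeal (MvPowerSeries (Fin 2) k)) (MvPowerSeries (Fin 2) k) :=
    Groth.Agent.Ega41.MvPS.isAdicComplete_maximalIdeal k
  have hF1 : F ∈ maximalIdeal (MvPowerSeries (Fin 2) k) := Ideal.pow_le_self (by norm_num) hF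
  have hloc := isLocalRing_quot hF1
  have hloc' : IsLocalRing (MvPowerSeries (Fin 2) k ⧸ Ideal.span {G}) :=
    e.symm.toRingEquiv.isLocalRing
  have hcF := isAdicComplete_quotient (MvPowerSeries (Fin 2) k) (Ideal.span {F})
  have hmk : ∀ (H : MvPowerSeries (Fin 2) k)
      [IsLocalRing (MvPowerSeries (Fin 2) k ⧸ Ideal.span {H})] (z : MvPowerSeries (Fin 2) k),
      Ideal.Quotient.mk (Ideal.span {H}) z ∈
        maximalIdeal (MvPowerSeries (Fin 2) k ⧸ Ideal.span {H}) ↔
      z ∈ maximalIdeal (MvPowerSeries (Fin 2) k) := by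
    intro H _ z
    have : IsLocalHom (Ideal.Quotient.mk (Ideal.span {H})) :=
      IsLocalHom.of_surjective _ Ideal.Quotient.mk_surjective
    rw [IsLocalRing.mem_maximalIdeal, IsLocalRing.mem_maximalIdeal, mem_nonunits_iff,
      mem_nonunits_iff, isUnit_map_iff]
  have he : ∀ z, e z ∈ maximalIdeal (MvPowerSeries (Fin 2) k ⧸ Ideal.span {F}) ↔
      z ∈ maximalIdeal (MvPowerSeries (Fin 2) k ⧸ Ideal.span {G}) := by
    intro z
    rw [IsLocalRing.mem_maximalIdeal, IsLocalRing.mem_maximalIdeal, mem_nonunits_iff,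
      mem_nonunits_iff, MulEquiv.isUnit_map]
  obtain ⟨a, ha⟩ := Ideal.Quotient.mk_surjective (e (Ideal.Quotient.mk _ (X 0)))
  obtain ⟨b, hb⟩ := Ideal.Quotient.mk_surjective (e (Ideal.Quotient.mk _ (X 1)))
  have ham : a ∈ maximalIdeal (MvPowerSeries (Fin 2) k) := by
    rw [← hmk F, ha, he, hmk G]; exact X_mem_maximalIdeal 0
  have hbm : b ∈ maximalIdeal (MvPowerSeries (Fin 2) k) := by
    rw [← hmk F, hb, he, hmk G]; exact X_mem_maximalIdeal 1
  have hspan : maximalIdeal (MvPowerSeries (Fin 2) k) = Ideal.span {a, b} := by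
    refine K813.Invol.eq_span_of_le ?_ ?_
    · rw [Ideal.span_le]
      rintro z (rfl | rfl)
      · exact ham
      · exact hbm
    · intro z hz
      obtain ⟨w, hw⟩ := Ideal.Quotient.mk_surjective (e.symm (Ideal.Quotient.mk _ z))
      have hwm : w ∈ maximalIdeal (MvPowerSeries (Fin 2) k) := by
        rw [← hmk G, hw, ← he, AlgEquiv.apply_symm_apply, hmk F]; exact hz
      rw [maximalIdeal_eq, Ideal.mem_span_pair] at hwm
      obtain ⟨c, d, rfl⟩ := hwm
      obtain ⟨c', hc'⟩ := Ideal.Quotient.mk_surjective (e (Ideal.Quotient.mk _ c))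
      obtain ⟨d', hd'⟩ := Ideal.Quotient.mk_surjective (e (Ideal.Quotient.mk _ d))
      have h1 : Ideal.Quotient.mk (Ideal.span {F}) z = Ideal.Quotient.mk _ (c' * a + d' * b) := by
        have h0 : Ideal.Quotient.mk (Ideal.span {F}) z = e (Ideal.Quotient.mk _ (c * X 0 + d * X 1)) := by
          rw [hw, AlgEquiv.apply_symm_apply]
        rw [h0]
        simp only [map_add, map_mul, ha, hb, hc', hd']
      rw [Ideal.Quotient.eq] at h1
      have h2 : z - (c' * a + d' * b) ∈ maximalIdeal (MvPowerSeries (Fin 2) k) ^ 2 :=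
        ((Ideal.span_singleton_le_iff_mem _).2 hF) h1
      have h3 : c' * a + d' * b ∈ Ideal.span {a, b} := Ideal.mem_span_pair.2 ⟨c', d', rfl⟩
      have h4 := Submodule.add_mem_sup h3 h2
      rwa [add_sub_cancel] at h4
  obtain ⟨φ, hφ0, hφ1⟩ := exists_aut hspan
  refine ⟨φ, ?_⟩
  have hcomm : ((Ideal.Quotient.mkₐ k (Ideal.span {F})).comp
      (φ : MvPowerSeries (Fin 2) k →ₐ[k] MvPowerSeries (Fin 2) k)) =
      (e : (MvPowerSeries (Fin 2) k ⧸ Ideal.span {G}) →ₐ[k]
      (MvPowerSeries (Fin 2) k ⧸ Ideal.span {F})).comp (Ideal.Quotient.mkₐ k (Ideal.span {G})) := by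
    refine algHom_ext (maximalIdeal (MvPowerSeries (Fin 2) k ⧸ Ideal.span {F})) ?_ ?_
    · intro i
      change Ideal.Quotient.mk (Ideal.span {F}) (φ (X i)) ∈ _
      rw [hmk F]
      fin_cases i
      · change φ (X 0) ∈ _
        rw [hφ0]; exact ham
      · change φ (X 1) ∈ _
        rw [hφ1]; exact hbm
    · intro i
      change Ideal.Quotient.mk (Ideal.span {F}) (φ (X i)) = e (Ideal.Quotient.mk _ (X i))
      fin_cases i
      · change Ideal.Quotient.mk (Ideal.span {F}) (φ (X 0)) = e (Ideal.Quotient.mk _ (X 0))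
        rw [hφ0, ha]
      · change Ideal.Quotient.mk (Ideal.span {F}) (φ (X 1)) = e (Ideal.Quotient.mk _ (X 1))
        rw [hφ1, hb]
  have hcomm' : ∀ z, Ideal.Quotient.mk (Ideal.span {F}) (φ z) = e (Ideal.Quotient.mk _ z) :=
    fun z => DFunLike.congr_fun hcomm z
  apply le_antisymm
  · rw [Ideal.span_singleton_le_iff_mem, ← Ideal.Quotient.eq_zero_iff_mem, hcomm',
      Ideal.Quotient.eq_zero_iff_mem.2 (Ideal.mem_span_singleton_self G), map_zero]
  · rw [Ideal.span_singleton_le_iff_mem]
    have h1 : e (Ideal.Quotient.mk _ (φ.symm F)) = 0 := by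
      rw [← hcomm', AlgEquiv.apply_symm_apply]
      exact Ideal.Quotient.eq_zero_iff_mem.2 (Ideal.mem_span_singleton_self F)
    rw [map_eq_zero_iff e e.injective, Ideal.Quotient.eq_zero_iff_mem,
      Ideal.mem_span_singleton] at h1
    obtain ⟨c, hc⟩ := h1
    rw [Ideal.mem_span_singleton]
    refine ⟨φ c, ?_⟩
    rw [← map_mul, ← hc, AlgEquiv.apply_symm_apply]

/-- Conversely, an automorphism matching the ideals gives an isomorphism of the quotients. -/
theorem nonempty_equiv {F G : MvPowerSeries (Fin 2) k}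
    (φ : MvPowerSeries (Fin 2) k ≃ₐ[k] MvPowerSeries (Fin 2) k)
    (h : Ideal.span {φ G} = Ideal.span {F}) :
    Nonempty ((MvPowerSeries (Fin 2) k ⧸ Ideal.span {G}) ≃ₐ[k]
      (MvPowerSeries (Fin 2) k ⧸ Ideal.span {F})) :=
  ⟨Ideal.quotientEquivAlg _ _ φ (by
    rw [Ideal.map_span, Set.image_singleton]; exact h.symm)⟩

/-- The linear part. -/
theorem exists_lin (F : MvPowerSeries (Fin 2) k) (hF : constantCoeff F = 0) :
    F - (C (coeff (Finsupp.single 0 1) F) * X 0 + C (coeff (Finsupp.single 1 1) F) * X 1) ∈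
      maximalIdeal (MvPowerSeries (Fin 2) k) ^ 2 := by
  classical
  rw [mem_pow_iff]
  intro d hd
  have hd' : d = 0 ∨ d = Finsupp.single 0 1 ∨ d = Finsupp.single 1 1 := by
    have h1 : d.degree = d 0 + d 1 := by
      rw [Finsupp.degree_eq_sum, Fin.sum_univ_two]
    have h2 : (d 0 = 0 ∧ d 1 = 0) ∨ (d 0 = 1 ∧ d 1 = 0) ∨ (d 0 = 0 ∧ d 1 = 1) := by omega
    rcases h2 with ⟨h3, h4⟩ | ⟨h3, h4⟩ | ⟨h3, h4⟩
    · left; ext i; fin_cases i <;> simp [h3, h4]
    · right; left; ext i; fin_cases i <;> simp [h3, h4]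
    · right; right; ext i; fin_cases i <;> simp [h3, h4]
  rcases hd' with rfl | rfl | rfl
  · simp [hF]
  · rw [map_sub, map_add, coeff_C_mul, coeff_C_mul, coeff_X, coeff_X, if_pos rfl, if_neg, mul_one,
      mul_zero, add_zero, sub_self]
    intro h
    have := DFunLike.congr_fun h 0
    simp at this
  · rw [map_sub, map_add, coeff_C_mul, coeff_C_mul, coeff_X, coeff_X, if_pos rfl, if_neg, mul_one,
      mul_zero, zero_add, sub_self]
    intro h
    have := DFunLike.congr_fun h 0
    simp at this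

/-- A power series in `m ∖ m²` can be completed to a pair of generators of `m`. -/
theorem exists_gen {F : MvPowerSeries (Fin 2) k}
    (hF : F ∈ maximalIdeal (MvPowerSeries (Fin 2) k))
    (hF2 : F ∉ maximalIdeal (MvPowerSeries (Fin 2) k) ^ 2) :
    ∃ L : MvPowerSeries (Fin 2) k,
      maximalIdeal (MvPowerSeries (Fin 2) k) = Ideal.span {L, F} := by
  have hnoeth : IsNoetherianRing (MvPowerSeries (Fin 2) k) := inferInstance
  have h0 : constantCoeff F = 0 := mem_maximalIdeal_iff.1 hF
  have hlin := exists_lin F h0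
  set α := coeff (Finsupp.single 0 1) F with hα
  set β := coeff (Finsupp.single 1 1) F with hβ
  have hne : α ≠ 0 ∨ β ≠ 0 := by
    by_contra hcon
    push Not at hcon
    apply hF2
    rw [hcon.1, hcon.2] at hlin
    simpa using hlin
  have key : ∀ (i j : Fin 2) (α β : k), (∀ z : Fin 2, z = i ∨ z = j) →  α ≠ 0 →
      F - (C α * X i + C β * X j) ∈ maximalIdeal (MvPowerSeries (Fin 2) k) ^ 2 →
      maximalIdeal (MvPowerSeries (Fin 2) k) = Ideal.span {X j, F} := by
    intro i j α β hij hα hlin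
    refine K813.Invol.eq_span_of_le ?_ ?_
    · rw [Ideal.span_le]
      rintro z (rfl | rfl)
      · exact X_mem_maximalIdeal j
      · exact hF
    · have hj : (X j : MvPowerSeries (Fin 2) k) ∈ Ideal.span {X j, F} ⊔
          maximalIdeal (MvPowerSeries (Fin 2) k) ^ 2 :=
        Submodule.mem_sup_left (Ideal.subset_span (by simp))
      have hi : (X i : MvPowerSeries (Fin 2) k) ∈ Ideal.span {X j, F} ⊔
          maximalIdeal (MvPowerSeries (Fin 2) k) ^ 2 := by
        have h1 : (X i : MvPowerSeries (Fin 2) k) = (- (C (α⁻¹ * β)) * X j + C α⁻¹ * F) -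
            C α⁻¹ * (F - (C α * X i + C β * X j)) := by
          have h2 : (C α⁻¹ * C α : MvPowerSeries (Fin 2) k) = 1 := by
            rw [← map_mul, inv_mul_cancel₀ hα, map_one]
          rw [map_mul]
          linear_combination (- X i : MvPowerSeries (Fin 2) k) * h2
        rw [h1]
        exact Ideal.sub_mem _ (Submodule.mem_sup_left (Ideal.mem_span_pair.2 ⟨_, _, rfl⟩))
          (Submodule.mem_sup_right (Ideal.mul_mem_left _ _ hlin))
      rw [maximalIdeal_eq]
      rw [← maximalIdeal_eq, Groth.Agent.Ega41.MvPS.maximalIdeal_eq, Ideal.span_le]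
      rintro _ ⟨z, rfl⟩
      rw [← Groth.Agent.Ega41.MvPS.maximalIdeal_eq]
      rcases hij z with rfl | rfl
      · exact hi
      · exact hj
  rcases hne with h | h
  · exact ⟨X 1, key 0 1 α β (by decide) h hlin⟩
  · exact ⟨X 0, key 1 0 β α (by decide) h (by rwa [add_comm (C β * X 1)])⟩

end K813.Pow2
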