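import Groth.Agent.ArSing.K813.EquivNode
import Groth.Agent.ArSing.K813.Pow2
import Groth.Agent.CurvesC.NodalAlg

/-!
# Equivariant deformations of a node: semi-invariants and the closed fibre
-/

set_option autoImplicit false

namespace K813.EquivNode2

open IsLocalRing K813.EquivNode

universe u

section Quot

variable {k : Type u} [Field k]

/-- The node in split form. -/
theorem exists_q (h2 : (2 : k) ≠ 0) {B : Type u} [CommRing B] [Algebra k B]
    (e : B ≃ₐ[k] (MvPowerSeries (Fin 2) k ⧸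
        Ideal.span {(MvPowerSeries.X 1 ^ 2 - MvPowerSeries.X 0 ^ 2 : MvPowerSeries (Fin 2) k)})) :
    ∃ q : MvPowerSeries (Fin 2) k →ₐ[k] B, Function.Surjective q ∧
      ∀ z, q z = 0 ↔ (MvPowerSeries.X 0 * MvPowerSeries.X 1 : MvPowerSeries (Fin 2) k) ∣ z := by
  have hm : maximalIdeal (MvPowerSeries (Fin 2) k) = Ideal.span
      {MvPowerSeries.X 1 - MvPowerSeries.X 0, MvPowerSeries.X 1 + MvPowerSeries.X 0} := by
    have h3 : (MvPowerSeries.C (2⁻¹ : k) : MvPowerSeries (Fin 2) k) * 2 = 1 := by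
      have h4 : (2 : MvPowerSeries (Fin 2) k) = MvPowerSeries.C (2 : k) := by rw [map_ofNat]
      rw [h4, ← map_mul, inv_mul_cancel₀ h2, map_one]
    rw [K813.Pow2.maximalIdeal_eq]
    apply le_antisymm
    · rw [Ideal.span_le]
      rintro z (rfl | rfl)
      · refine Ideal.mem_span_pair.2 ⟨-MvPowerSeries.C (2⁻¹ : k), MvPowerSeries.C (2⁻¹ : k), ?_⟩
        linear_combination (MvPowerSeries.X 0 : MvPowerSeries (Fin 2) k) * h3
      · refine Ideal.mem_span_pair.2 ⟨MvPowerSeries.C (2⁻¹ : k), MvPowerSeries.C (2⁻¹ : k), ?_⟩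
        linear_combination (MvPowerSeries.X 1 : MvPowerSeries (Fin 2) k) * h3
    · rw [Ideal.span_le]
      rintro z (rfl | rfl)
      · exact Ideal.mem_span_pair.2 ⟨-1, 1, by ring⟩
      · exact Ideal.mem_span_pair.2 ⟨1, 1, by ring⟩
  obtain ⟨φ, hφ0, hφ1⟩ := K813.Pow2.exists_aut hm
  refine ⟨(e.symm.toAlgHom.comp (Ideal.Quotient.mkₐ k _)).comp
    (φ : MvPowerSeries (Fin 2) k →ₐ[k] MvPowerSeries (Fin 2) k), ?_, ?_⟩
  · exact (e.symm.surjective.comp Ideal.Quotient.mk_surjective).comp φ.surjective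
  · intro z
    change e.symm (Ideal.Quotient.mk _ (φ z)) = 0 ↔ _
    rw [map_eq_zero_iff e.symm e.symm.injective, Ideal.Quotient.eq_zero_iff_mem,
      Ideal.mem_span_singleton]
    have h4 : (MvPowerSeries.X 1 ^ 2 - MvPowerSeries.X 0 ^ 2 : MvPowerSeries (Fin 2) k) =
        φ (MvPowerSeries.X 0 * MvPowerSeries.X 1) := by
      rw [map_mul, hφ0, hφ1]; ring
    rw [h4, map_dvd_iff φ]

theorem q_X0_ne {B : Type u} [CommRing B] [Algebra k B] (q : MvPowerSeries (Fin 2) k →ₐ[k] B)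
    (hq : ∀ z, q z = 0 ↔ (MvPowerSeries.X 0 * MvPowerSeries.X 1 : MvPowerSeries (Fin 2) k) ∣ z) :
    q (MvPowerSeries.X 0) ≠ 0 ∧ q (MvPowerSeries.X 1) ≠ 0 := by
  have h := Groth.Agent.CurvesC.NodalAlg.X1_not_dvd_X0 k
  constructor
  · intro h0
    rw [hq] at h0
    exact h ((Dvd.intro_left _ rfl).trans h0)
  · intro h0
    rw [hq] at h0
    have h1 : (MvPowerSeries.X 0 : MvPowerSeries (Fin 2) k) ∣ MvPowerSeries.X 1 :=
      (Dvd.intro _ rfl).trans h0
    rw [MvPowerSeries.X_dvd_iff] at h1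
    have := h1 (Finsupp.single 1 1) (by simp)
    simp [MvPowerSeries.coeff_X] at this

/-- A surjection of the node algebra onto itself is injective. -/
theorem dvd_of_map_eq_zero {B : Type u} [CommRing B] [IsLocalRing B]
    [IsHausdorff (maximalIdeal B) B] [Algebra k B]
    (q : MvPowerSeries (Fin 2) k →ₐ[k] B) (hqs : Function.Surjective q)
    (hq : ∀ z, q z = 0 ↔ (MvPowerSeries.X 0 * MvPowerSeries.X 1 : MvPowerSeries (Fin 2) k) ∣ z)
    (ψ : MvPowerSeries (Fin 2) k →ₐ[k] B) (hψ0 : ψ (MvPowerSeries.X 0 * MvPowerSeries.X 1) = 0)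
    (hm : maximalIdeal B ≤ Ideal.span {ψ (MvPowerSeries.X 0), ψ (MvPowerSeries.X 1)})
    (hψm : ∀ i, ψ (MvPowerSeries.X i) ∈ maximalIdeal B) {z : MvPowerSeries (Fin 2) k}
    (hz : ψ z = 0) :
    (MvPowerSeries.X 0 * MvPowerSeries.X 1 : MvPowerSeries (Fin 2) k) ∣ z := by
  have hψs : Function.Surjective ψ := by
    refine K813.Basic.surjective_of_span (maximalIdeal B) ψ (hm.trans (Ideal.span_mono ?_)) hψm
      (K813.Basic.exists_const_of_surjective q hqs K813.Basic.exists_const)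
    intro z hz
    rcases hz with rfl | rfl
    · exact ⟨0, rfl⟩
    · exact ⟨1, rfl⟩
  set I : Ideal (MvPowerSeries (Fin 2) k) :=
    Ideal.span {MvPowerSeries.X 0 * MvPowerSeries.X 1} with hI
  have hqI : ∀ a ∈ I, (q : MvPowerSeries (Fin 2) k →+* B) a = 0 := by
    intro a ha
    exact (hq a).2 (Ideal.mem_span_singleton.1 ha)
  have hψI : ∀ a ∈ I, (ψ : MvPowerSeries (Fin 2) k →+* B) a = 0 := by
    intro a ha
    obtain ⟨b, rfl⟩ := Ideal.mem_span_singleton.1 ha
    change ψ (_ * b) = 0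
    rw [map_mul, hψ0, zero_mul]
  set qb := Ideal.Quotient.lift I (q : MvPowerSeries (Fin 2) k →+* B) hqI with hqb
  set ψb := Ideal.Quotient.lift I (ψ : MvPowerSeries (Fin 2) k →+* B) hψI with hψb
  have hqbb : Function.Bijective qb := by
    constructor
    · rw [injective_iff_map_eq_zero]
      intro a ha
      obtain ⟨a, rfl⟩ := Ideal.Quotient.mk_surjective a
      rw [hqb, Ideal.Quotient.lift_mk] at ha
      rw [Ideal.Quotient.eq_zero_iff_mem, hI, Ideal.mem_span_singleton]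
      exact (hq a).1 ha
    · intro b
      obtain ⟨a, rfl⟩ := hqs b
      exact ⟨Ideal.Quotient.mk _ a, by rw [hqb, Ideal.Quotient.lift_mk]; rfl⟩
  have hψbs : Function.Surjective ψb := by
    intro b
    obtain ⟨a, rfl⟩ := hψs b
    exact ⟨Ideal.Quotient.mk _ a, by rw [hψb, Ideal.Quotient.lift_mk]; rfl⟩
  let E := RingEquiv.ofBijective qb hqbb
  have hinj := K813.Basic.injective_of_surjective_ringEnd
    ((E.symm : B →+* (MvPowerSeries (Fin 2) k ⧸ I)).comp ψb)
    (E.symm.surjective.comp hψbs)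
  have h1 : Ideal.Quotient.mk I z = 0 := by
    apply hinj
    rw [map_zero, RingHom.comp_apply, hψb, Ideal.Quotient.lift_mk]
    change E.symm (ψ z) = 0
    rw [hz, map_zero]
  rwa [Ideal.Quotient.eq_zero_iff_mem, hI, Ideal.mem_span_singleton] at h1

end Quot

variable {k R S : Type u} [Field k] [CommRing R] [IsLocalRing R] [CommRing S] [IsLocalRing S]
  [Algebra k R] [Algebra R S] [Algebra k S] [IsScalarTower k R S]

/-- Semi-invariants. -/
theorem exists_semi (h2 : (2 : k) ≠ 0) (σ : S ≃ₐ[R] S) (hσ : ∀ s, σ (σ s) = s)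
    (hres : ∀ s : S, ∃ c : k, s - algebraMap k S c ∈ maximalIdeal S) {x₁ : S}
    (hx : x₁ ∉ nn R S) (hxs : σ x₁ ∈ Ideal.span {x₁} ⊔ nn R S) :
    ∃ (ξ : k) (u w : S), ξ ^ 2 = 1 ∧ σ u = algebraMap k S ξ * u ∧ IsUnit w ∧
      u - w * x₁ ∈ nn R S := by
  obtain ⟨z, hz, n, hn, hzn⟩ := Submodule.mem_sup.1 hxs
  obtain ⟨a, rfl⟩ := Ideal.mem_span_singleton'.1 hz
  obtain ⟨c, hc⟩ := hres a
  have hσm : ∀ s : S, s ∈ maximalIdeal S → σ s ∈ maximalIdeal S := by
    intro s hs
    rw [IsLocalRing.mem_maximalIdeal, mem_nonunits_iff]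
    intro h
    exact hs ((MulEquiv.isUnit_map (σ : S ≃* S)).1 h)
  have hn' : σ n ∈ nn R S := by
    have := map_nn_pow σ 1 (s := n) (by rwa [pow_one])
    rwa [pow_one] at this
  -- `1 - a σ(a)` is not a unit
  have h1 : 1 - a * σ a ∈ maximalIdeal S := by
    intro hu
    apply hx
    rw [← Ideal.unit_mul_mem_iff_mem _ hu]
    have h3 : σ a * (a * x₁ + n) + σ n = x₁ := by
      rw [hzn, ← map_mul, ← map_add, hzn, hσ]
    have e : (1 - a * σ a) * x₁ = σ a * n + σ n := by linear_combination -h3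
    rw [e]
    exact Ideal.add_mem _ (Ideal.mul_mem_left _ _ hn) hn'
  have hc2 : c ^ 2 = 1 := by
    have h3 := hσm _ hc
    rw [map_sub, map_k] at h3
    have h4 := Ideal.add_mem _ (Ideal.add_mem _ h1 (Ideal.mul_mem_right (σ a) _ hc))
      (Ideal.mul_mem_left _ (algebraMap k S c) h3)
    have e : 1 - a * σ a + (a - algebraMap k S c) * σ a +
        algebraMap k S c * (σ a - algebraMap k S c) = algebraMap k S (1 - c ^ 2) := by
      rw [map_sub, map_one, map_pow]; ring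
    rw [e] at h4
    by_contra hne
    exact h4 ((IsUnit.mk0 _ (sub_ne_zero.2 (Ne.symm hne))).map (algebraMap k S))
  set d := algebraMap k S 2⁻¹ with hd
  set c' := algebraMap k S c with hc'
  have e3 : d + d = 1 := K813.Invol.half_add' h2
  have e1 : c' * c' = 1 := by rw [hc', ← map_mul, ← sq, hc2, map_one]
  refine ⟨c, d * (x₁ + c' * σ x₁), d * (1 + c' * a), hc2, ?_, ?_, ?_⟩
  · rw [map_mul, map_add, map_mul, hσ, hd, hc', map_k, map_k, ← hd, ← hc']
    linear_combination (-d * σ x₁) * e1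
  · by_contra hnu
    have h3 : d * (1 + c' * a) ∈ maximalIdeal S := hnu
    have h4 := Ideal.sub_mem _ h3 (Ideal.mul_mem_left _ (d * c') hc)
    have e : d * (1 + c' * a) - d * c' * (a - c') = 1 := by
      linear_combination e3 + d * e1
    rw [e] at h4
    exact (Ideal.ne_top_iff_one _).1 (IsLocalRing.maximalIdeal.isMaximal S).ne_top h4
  · have e : d * (x₁ + c' * σ x₁) - d * (1 + c' * a) * x₁ = d * c' * n := by
      linear_combination (-d * c') * hzn
    rw [e]
    exact Ideal.mul_mem_left _ _ hn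

/-- `(x₁) + m_R S` is a minimal prime over `m_R S`. -/
theorem mem_minimalPrimes (q : MvPowerSeries (Fin 2) k →ₐ[k] (S ⧸ nn R S))
    (hqs : Function.Surjective q)
    (hq : ∀ z, q z = 0 ↔ (MvPowerSeries.X 0 * MvPowerSeries.X 1 : MvPowerSeries (Fin 2) k) ∣ z)
    (i j : Fin 2) (hij : i ≠ j)
    (hXij : (MvPowerSeries.X i * MvPowerSeries.X j : MvPowerSeries (Fin 2) k) =
      MvPowerSeries.X 0 * MvPowerSeries.X 1)
    (hp : Prime (MvPowerSeries.X i : MvPowerSeries (Fin 2) k)) {x₁ : S}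
    (hx : Ideal.Quotient.mk (nn R S) x₁ = q (MvPowerSeries.X i)) :
    Ideal.span {x₁} ⊔ nn R S ∈ (nn R S).minimalPrimes := by
  classical
  -- membership
  have hmem : ∀ (s : S) (z : MvPowerSeries (Fin 2) k), Ideal.Quotient.mk (nn R S) s = q z →
      (s ∈ Ideal.span {x₁} ⊔ nn R S ↔ (MvPowerSeries.X i : MvPowerSeries (Fin 2) k) ∣ z) := by
    intro s z hs
    constructor
    · intro h
      obtain ⟨y, hy, n, hn, hyn⟩ := Submodule.mem_sup.1 h
      obtain ⟨a, rfl⟩ := Ideal.mem_span_singleton'.1 hy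
      obtain ⟨a', ha'⟩ := hqs (Ideal.Quotient.mk _ a)
      have h1 : q (z - a' * MvPowerSeries.X i) = 0 := by
        rw [map_sub, map_mul, ha', ← hx, ← hs, ← hyn, map_add, map_mul,
          Ideal.Quotient.eq_zero_iff_mem.2 hn, add_zero, sub_self]
      rw [hq, ← hXij] at h1
      have h3 : (MvPowerSeries.X i : MvPowerSeries (Fin 2) k) ∣ z - a' * MvPowerSeries.X i :=
        (Dvd.intro _ rfl).trans h1
      have h4 := dvd_add h3 (Dvd.intro_left a' (rfl : a' * MvPowerSeries.X i = _))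
      rwa [sub_add_cancel] at h4
    · rintro ⟨z', rfl⟩
      obtain ⟨a, ha⟩ := Ideal.Quotient.mk_surjective (q z')
      rw [map_mul, ← hx, ← ha, ← map_mul, Ideal.Quotient.eq] at hs
      have e : s = x₁ * a + (s - x₁ * a) := by ring
      rw [e]
      exact Submodule.add_mem_sup (Ideal.mul_mem_right _ _ (Ideal.mem_span_singleton_self x₁)) hs
  have hprime : (Ideal.span {x₁} ⊔ nn R S).IsPrime := by
    constructor
    · intro h
      have h1 : (1 : S) ∈ Ideal.span {x₁} ⊔ nn R S := by rw [h]; trivial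
      rw [hmem 1 1 (by rw [map_one, map_one])] at h1
      exact hp.not_isUnit (isUnit_of_dvd_one h1)
    · intro a b hab
      obtain ⟨a', ha'⟩ := hqs (Ideal.Quotient.mk _ a)
      obtain ⟨b', hb'⟩ := hqs (Ideal.Quotient.mk _ b)
      rw [hmem (a * b) (a' * b') (by rw [map_mul, map_mul, ha', hb'])] at hab
      rw [hmem a a' ha'.symm, hmem b b' hb'.symm]
      exact hp.dvd_or_dvd hab
  obtain ⟨y₁, hy₁⟩ := Ideal.Quotient.mk_surjective (q (MvPowerSeries.X j))
  have hxy : x₁ * y₁ ∈ nn R S := by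
    rw [← Ideal.Quotient.eq_zero_iff_mem, map_mul, hx, hy₁, ← map_mul, hXij, hq]
  have hyn : y₁ ∉ Ideal.span {x₁} ⊔ nn R S := by
    rw [hmem y₁ _ hy₁, MvPowerSeries.X_dvd_iff]
    intro h
    have := h (Finsupp.single j 1) (by rw [Finsupp.single_apply, if_neg (Ne.symm hij)])
    rw [MvPowerSeries.coeff_X, if_pos rfl] at this
    exact one_ne_zero this
  refine ⟨⟨hprime, le_sup_right⟩, ?_⟩
  intro P hP hle
  obtain ⟨hP1, hP2⟩ := hP
  refine sup_le ?_ hP2
  rw [Ideal.span_singleton_le_iff_mem]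
  rcases hP1.mem_or_mem (hP2 hxy) with h | h
  · exact h
  · exact absurd (hle h) hyn

end K813.EquivNode2
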