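import Groth.Agent.ArSing.K813.Len

/-!
# Even and odd parts of power series
-/

set_option autoImplicit false

namespace K813.EvOdd

open IsLocalRing ArSing K813.NF K813.Basic K813.Ring K813.Len

universe u v

variable {k : Type u} [Field k] {r : ℕ}

/-- The substitution `X ↦ X^2`. -/
noncomputable def ev (k : Type u) [Field k] : PowerSeries k →ₐ[k] PowerSeries k :=
  PowerSeries.substAlgHom (PowerSeries.HasSubst.X_pow (two_ne_zero))

theorem ev_X : ev k PowerSeries.X = PowerSeries.X ^ 2 := PowerSeries.substAlgHom_X _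

theorem coeff_ev (p : PowerSeries k) (n : ℕ) :
    PowerSeries.coeff n (ev k p) = if 2 ∣ n then PowerSeries.coeff (n / 2) p else 0 := by
  rw [ev, PowerSeries.coe_substAlgHom, PowerSeries.coeff_subst_X_pow two_ne_zero]
  simp

theorem exists_ev (p : PowerSeries k) : ∃ p₀ p₁ : PowerSeries k,
    p = ev k p₀ + PowerSeries.X * ev k p₁ := by
  refine ⟨PowerSeries.mk fun n => PowerSeries.coeff (2 * n) p,
    PowerSeries.mk fun n => PowerSeries.coeff (2 * n + 1) p, ?_⟩
  ext n
  rw [map_add, coeff_ev]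
  rcases Nat.even_or_odd' n with ⟨m, rfl | rfl⟩
  · rw [if_pos (Dvd.intro _ rfl), PowerSeries.coeff_mk]
    have h1 : PowerSeries.coeff (2 * m) (PowerSeries.X * ev k
        (PowerSeries.mk fun n => PowerSeries.coeff (2 * n + 1) p)) = 0 := by
      rcases m with _ | m
      · simp
      · rw [show 2 * (m + 1) = (2 * m + 1) + 1 by ring, PowerSeries.coeff_succ_X_mul, coeff_ev,
          if_neg (by omega)]
    rw [h1, add_zero, Nat.mul_div_cancel_left _ (by norm_num)]
  · rw [if_neg (by omega), PowerSeries.coeff_succ_X_mul, coeff_ev, if_pos (Dvd.intro _ rfl),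
      PowerSeries.coeff_mk, Nat.mul_div_cancel_left _ (by norm_num), zero_add]

theorem ev_unique {p₀ p₁ : PowerSeries k} (h : ev k p₀ + PowerSeries.X * ev k p₁ = 0) :
    p₀ = 0 ∧ p₁ = 0 := by
  constructor
  · ext n
    have h1 := congrArg (PowerSeries.coeff (2 * n)) h
    have h2 : PowerSeries.coeff (2 * n) (PowerSeries.X * ev k p₁) = 0 := by
      rcases n with _ | n
      · simp
      · rw [show 2 * (n + 1) = (2 * n + 1) + 1 by ring, PowerSeries.coeff_succ_X_mul, coeff_ev,
          if_neg (by omega)]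
    rw [map_add, coeff_ev, if_pos (Dvd.intro _ rfl), h2, add_zero,
      Nat.mul_div_cancel_left _ (by norm_num)] at h1
    simpa using h1
  · ext n
    have h1 := congrArg (PowerSeries.coeff (2 * n + 1)) h
    rw [map_add, coeff_ev, if_neg (by omega), PowerSeries.coeff_succ_X_mul, coeff_ev,
      if_pos (Dvd.intro _ rfl), Nat.mul_div_cancel_left _ (by norm_num), zero_add] at h1
    simpa using h1

theorem ev_inj {p₀ p₁ q₀ q₁ : PowerSeries k}
    (h : ev k p₀ + PowerSeries.X * ev k p₁ = ev k q₀ + PowerSeries.X * ev k q₁) :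
    p₀ = q₀ ∧ p₁ = q₁ := by
  have h1 : ev k (p₀ - q₀) + PowerSeries.X * ev k (p₁ - q₁) = 0 := by
    rw [map_sub, map_sub]; linear_combination h
  have h2 := ev_unique h1
  exact ⟨sub_eq_zero.1 h2.1, sub_eq_zero.1 h2.2⟩

theorem rescale_ev (p : PowerSeries k) : PowerSeries.rescale (-1) (ev k p) = ev k p := by
  ext n
  rw [PowerSeries.coeff_rescale, coeff_ev]
  split_ifs with h
  · obtain ⟨m, rfl⟩ := h
    rw [pow_mul]; simp
  · simp

theorem rescale_decomp (p₀ p₁ : PowerSeries k) :
    PowerSeries.rescale (-1) (ev k p₀ + PowerSeries.X * ev k p₁) =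
      ev k p₀ + PowerSeries.X * ev k (-p₁) := by
  rw [map_add, map_mul, rescale_ev, rescale_ev, PowerSeries.rescale_X, map_neg, map_neg, map_one]
  ring

theorem eq_zero_of_eq_neg (h2 : (2 : k) ≠ 0) {p : PowerSeries k} (h : -p = p) : p = 0 := by
  have h4 : (2 : PowerSeries k) * p = 0 := by linear_combination (-1 : PowerSeries k) * h
  rcases mul_eq_zero.1 h4 with h | h
  · exfalso
    apply h2
    have := congrArg PowerSeries.constantCoeff h
    rwa [map_ofNat, map_zero] at this
  · exact h

theorem isUnit_two (h2 : (2 : k) ≠ 0) : IsUnit (2 : ring k r) := by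
  have := (IsUnit.mk0 (2 : k) h2).map (algebraMap k (ring k r))
  rwa [map_ofNat] at this

theorem map_xMap_sq {s : ℕ} {φ : ring k s →ₐ[k] ring k r} (hφ : φ (x k s) = x k r ^ 2)
    (p : PowerSeries k) : φ (xMap k s p) = xMap k r (ev k p) := by
  have h : φ.comp (xMap k s) = (xMap k r).comp (ev k) := by
    apply ps_hom_ext (exC k r)
    rw [AlgHom.comp_apply, AlgHom.comp_apply, xMap_X, hφ, ev_X, map_pow, xMap_X]
  exact DFunLike.congr_fun h p

theorem map_ne_top {s : ℕ} (φ : ring k s →ₐ[k] ring k r) (I : Ideal (ring k s)) (hI : I.IsMaximal) :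
    Ideal.map φ I ≠ ⊤ := by
  intro htop
  have h1 : Ideal.map φ I ≤ maximalIdeal (ring k r) := by
    rw [Ideal.map_le_iff_le_comap]
    intro p hp
    exact map_mem_maximalIdeal (exC k r) φ (IsLocalRing.le_maximalIdeal hI.ne_top hp)
  rw [htop] at h1
  exact Ideal.IsPrime.ne_top' (top_le_iff.1 h1)

end K813.EvOdd
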