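import Groth.Agent.ArSing.K813.Basic
import Groth.Agent.CalgB.PowSer
import Groth.Agent.CalgB.PowSerMap
import Groth.Agent.CalgB.PowSerHt
import Mathlib.RingTheory.Flat.EquationalCriterion
import Mathlib.RingTheory.Nakayama

/-!
# Surjections onto flat algebras, limits of sequences in complete rings
-/

set_option autoImplicit false

namespace K813.FlatInj

open IsLocalRing

universe u v w

/-- A surjection of `R`-algebras `A → S` with `A` Noetherian local, `S` flat over `R` and kernel
contained in `I A ⊆ m_A` is injective. -/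
theorem injective_of_flat {R : Type u} {A : Type v} {S : Type w} [CommRing R] [CommRing A]
    [CommRing S] [Algebra R A] [Algebra R S] [IsLocalRing A] [IsNoetherianRing A] [Module.Flat R S]
    (I : Ideal R) (hI : I.map (algebraMap R A) ≤ maximalIdeal A) (f : A →ₐ[R] S)
    (hf : Function.Surjective f) (hker : RingHom.ker f ≤ I.map (algebraMap R A)) :
    Function.Injective f := by
  classical
  suffices h : RingHom.ker f ≤ maximalIdeal A • RingHom.ker f by
    rw [injective_iff_map_eq_zero]
    intro a ha
    have h1 : RingHom.ker f = ⊥ :=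
      Submodule.eq_bot_of_le_smul_of_le_jacobson_bot (maximalIdeal A) _
        (IsNoetherian.noetherian _) h (IsLocalRing.maximalIdeal_le_jacobson _)
    have h2 : a ∈ RingHom.ker f := ha
    rw [h1] at h2
    exact h2
  intro x hx
  have hx1 := hker hx
  rw [Ideal.map, Ideal.span, Finsupp.mem_span_image_iff_linearCombination] at hx1
  obtain ⟨l, hl, hlx⟩ := hx1
  rw [Finsupp.linearCombination_apply, Finsupp.sum] at hlx
  have h0 : ∑ i : l.support, (i : R) • f (l i) = 0 := by
    have h1 : f x = 0 := hx
    rw [← hlx, map_sum] at h1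
    rw [← h1, ← Finset.sum_coe_sort l.support (fun i => f (l i • algebraMap R A i))]
    refine Finset.sum_congr rfl fun i _ => ?_
    rw [smul_eq_mul, map_mul, AlgHom.commutes, Algebra.smul_def, mul_comm]
  obtain ⟨κ, a, y, h1, h2⟩ := Module.Flat.isTrivialRelation_of_sum_smul_eq_zero
    (R := R) (M := S) (f := fun i : l.support => (i : R)) (x := fun i : l.support => f (l i)) h0
  choose Y hY using fun j => hf (y j)
  have h3 : x = ∑ i : l.support, algebraMap R A i * (l i - ∑ j, a i j • Y j) := by
    have h4 : ∑ i : l.support, algebraMap R A i * (∑ j, a i j • Y j) = 0 := by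
      simp only [Finset.mul_sum]
      rw [Finset.sum_comm]
      refine Finset.sum_eq_zero fun j _ => ?_
      have h5 : ∑ i : l.support, algebraMap R A i * (a i j • Y j) =
          (∑ i : l.support, (i : R) * a i j) • Y j := by
        rw [Finset.sum_smul]
        refine Finset.sum_congr rfl fun i _ => ?_
        rw [mul_smul, Algebra.smul_def (i : R)]
      rw [h5, h2, zero_smul]
    simp only [mul_sub]
    rw [Finset.sum_sub_distrib, h4, sub_zero, ← hlx,
      ← Finset.sum_coe_sort l.support (fun i => l i • algebraMap R A i)]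
    refine Finset.sum_congr rfl fun i _ => ?_
    rw [smul_eq_mul, mul_comm]
  rw [h3]
  refine Submodule.sum_mem _ fun i _ => ?_
  refine Submodule.smul_mem_smul (hI (Ideal.mem_map_of_mem _ (hl i.2))) ?_
  rw [RingHom.mem_ker, map_sub, sub_eq_zero]
  refine (h1 i).trans ?_
  rw [map_sum]
  refine Finset.sum_congr rfl fun j _ => ?_
  rw [map_smul, hY]

/-- Limits. -/
theorem exists_limit {S : Type u} [CommRing S] (J : Ideal S) [IsPrecomplete J S] (f : ℕ → S)
    (hf : ∀ n, f (n + 1) - f n ∈ J ^ n) : ∃ L, ∀ n, L - f n ∈ J ^ n := by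
  have h1 : ∀ m d, f (m + d) - f m ∈ J ^ m := by
    intro m d
    induction d with
    | zero => simp
    | succ d ih =>
      have h2 := Ideal.pow_le_pow_right (Nat.le_add_right m d) (hf (m + d))
      have h3 := Ideal.add_mem _ h2 ih
      rw [sub_add_sub_cancel] at h3
      exact h3
  obtain ⟨L, hL⟩ := IsPrecomplete.prec' (I := J) f (by
    intro m n hmn
    obtain ⟨d, rfl⟩ := Nat.exists_eq_add_of_le hmn
    rw [SModEq.sub_mem, smul_eq_mul, Ideal.mul_top, ← neg_mem_iff, neg_sub]
    exact h1 m d)
  refine ⟨L, fun n => ?_⟩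
  have h2 := hL n
  rw [SModEq.sub_mem, smul_eq_mul, Ideal.mul_top, ← neg_mem_iff, neg_sub] at h2
  exact h2

theorem eq_zero_of_mem_pow {S : Type u} [CommRing S] (J : Ideal S) [IsHausdorff J S] {x : S}
    (h : ∀ n, x ∈ J ^ n) : x = 0 := by
  refine IsHausdorff.haus' (I := J) _ fun n => ?_
  rw [SModEq.zero, smul_eq_mul, Ideal.mul_top]
  exact h n

/-- Surjectivity of the evaluation map. -/
theorem surjective_of_residue {R S : Type u} [CommRing R] [IsLocalRing R] [IsNoetherianRing R]
    [IsAdicComplete (maximalIdeal R) R] [CommRing S] [IsLocalRing S] [IsNoetherianRing S]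
    [Algebra R S] [IsLocalHom (algebraMap R S)] (n : ℕ)
    (f : MvPowerSeries (Fin n) R →ₐ[R] S) (hfm : ∀ i, f (MvPowerSeries.X i) ∈ maximalIdeal S)
    (hres : ∀ s : S, ∃ r : R, s - algebraMap R S r ∈ maximalIdeal S)
    (hspan : maximalIdeal S ≤ Ideal.span (Set.range fun i => f (MvPowerSeries.X i)) ⊔
      (maximalIdeal R).map (algebraMap R S)) : Function.Surjective f := by
  have hcomp : IsAdicComplete (maximalIdeal (MvPowerSeries (Fin n) R)) (MvPowerSeries (Fin n) R) :=
    Groth.Agent.CalgB.PowSer.isAdicComplete_mvPowerSeries n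
  have hmax := Groth.Agent.CalgB.PowSerMap.maximalIdeal_eq (σ := Fin n) (Λ := R)
  have hC : ∀ r : R, f (MvPowerSeries.C r) = algebraMap R S r := fun r => f.commutes r
  have hle : (maximalIdeal R).map (algebraMap R S) ≤ maximalIdeal S := by
    rw [Ideal.map_le_iff_le_comap]
    intro r hr
    exact (IsLocalRing.mem_maximalIdeal _).2 (fun h => hr (isUnit_of_map_unit (algebraMap R S) _ h))
  have h1 : (maximalIdeal (MvPowerSeries (Fin n) R)).map (f : MvPowerSeries (Fin n) R →+* S) =
      maximalIdeal S := by
    apply le_antisymm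
    · rw [hmax, Ideal.map_sup, sup_le_iff]
      constructor
      · rw [Ideal.map_map, Ideal.map_le_iff_le_comap]
        intro r hr
        rw [Ideal.mem_comap, RingHom.comp_apply]
        change f (MvPowerSeries.C r) ∈ _
        rw [hC]
        exact hle (Ideal.mem_map_of_mem _ hr)
      · rw [Ideal.map_span, Ideal.span_le]
        rintro _ ⟨_, ⟨i, rfl⟩, rfl⟩
        exact hfm i
    · refine hspan.trans (sup_le ?_ ?_)
      · rw [Ideal.span_le]
        rintro _ ⟨i, rfl⟩
        refine Ideal.mem_map_of_mem (f : MvPowerSeries (Fin n) R →+* S) ?_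
        rw [hmax]
        exact Ideal.mem_sup_right (Ideal.subset_span ⟨i, rfl⟩)
      · rw [Ideal.map_le_iff_le_comap]
        intro r hr
        rw [Ideal.mem_comap, ← hC]
        refine Ideal.mem_map_of_mem (f : MvPowerSeries (Fin n) R →+* S) ?_
        rw [hmax]
        exact Ideal.mem_sup_left (Ideal.mem_map_of_mem _ hr)
  have : IsHausdorff ((maximalIdeal (MvPowerSeries (Fin n) R)).map
      (f : MvPowerSeries (Fin n) R →+* S)) S := by
    rw [h1]; infer_instance
  refine surjective_of_mk_map_comp_surjective (I := maximalIdeal (MvPowerSeries (Fin n) R))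
    (f : MvPowerSeries (Fin n) R →+* S) ?_
  intro b
  obtain ⟨b, rfl⟩ := Ideal.Quotient.mk_surjective b
  obtain ⟨t, ht⟩ := hres b
  refine ⟨algebraMap R _ t, ?_⟩
  rw [RingHom.comp_apply, Ideal.Quotient.eq, h1, ← neg_mem_iff, neg_sub]
  simpa using ht

end K813.FlatInj
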