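import Mathlib.RingTheory.Flat.EquationalCriterion
import Mathlib.RingTheory.RingHom.Flat
import Mathlib.Tactic

/-!
# Relations in flat algebras with one or two terms
-/

set_option autoImplicit false

namespace K813.FlatRel

universe u v

theorem exists_of_rel_two {A : Type u} {B : Type v} [CommRing A] [CommRing B] (φ : A →+* B)
    (h : φ.Flat) (a b : A) (s t : B) (hrel : φ a * s + φ b * t = 0) :
    ∃ (n : ℕ) (p q : Fin n → A) (z : Fin n → B), s = ∑ j, φ (p j) * z j ∧
      t = ∑ j, φ (q j) * z j ∧ ∀ j, a * p j + b * q j = 0 := by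
  let : Algebra A B := φ.toAlgebra
  have hfl : Module.Flat A B := h
  have hsmul : ∀ (p : A) (c : B), p • c = φ p * c := fun p a => rfl
  have hrel : ∑ i : Fin 2, (![a, b] : Fin 2 → A) i • (![s, t] : Fin 2 → B) i = 0 := by
    rw [Fin.sum_univ_two]
    simpa [hsmul] using hrel
  obtain ⟨n, c, z, h1, h2⟩ := Module.Flat.isTrivialRelation_of_sum_smul_eq_zero
    (R := A) (M := B) (f := ![a, b]) (x := ![s, t]) hrel
  refine ⟨n, c 0, c 1, z, ?_, ?_, ?_⟩
  · simpa [hsmul] using h1 0
  · simpa [hsmul] using h1 1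
  · intro j
    simpa [Fin.sum_univ_two] using h2 j

theorem exists_of_rel_one {A : Type u} {B : Type v} [CommRing A] [CommRing B] (φ : A →+* B)
    (h : φ.Flat) (a : A) (s : B) (hrel : φ a * s = 0) :
    ∃ (n : ℕ) (p : Fin n → A) (z : Fin n → B), s = ∑ j, φ (p j) * z j ∧ ∀ j, a * p j = 0 := by
  obtain ⟨n, p, q, z, h1, -, h2⟩ := exists_of_rel_two φ h a 0 s 0 (by simp [hrel])
  exact ⟨n, p, z, h1, fun j => by simpa using h2 j⟩

end K813.FlatRel
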