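import Groth.Agent.ArSing.K813.Invol

/-!
# Normal form of involutions of the rings `ArSing.ring k r`, `r ≥ 2`
-/

set_option autoImplicit false

namespace K813.Invol2

open IsLocalRing ArSing K813.NF K813.Basic K813.Ring K813.Len K813.EvOdd K813.Lin K813.Invol
open K813.TwoGen K813.Sqrt

universe u v

theorem isUnit_algebraMap {k : Type u} [Field k] {A : Type v} [CommRing A] [Algebra k A] {c : k}
    (hc : c ≠ 0) : IsUnit (algebraMap k A c) := (IsUnit.mk0 c hc).map _

theorem constantCoeff_rescale' {k : Type u} [Field k] (c : k) (p : PowerSeries k) :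
    PowerSeries.constantCoeff (PowerSeries.rescale c p) = PowerSeries.constantCoeff p := by
  rw [← PowerSeries.coeff_zero_eq_constantCoeff_apply, PowerSeries.coeff_rescale]
  simp

variable {k : Type u} [Field k] {r : ℕ}

theorem exists_j {x' : ring k r} (hx' : x' ∈ maximalIdeal (ring k r)) :
    ∃ j : PowerSeries k →ₐ[k] ring k r, j PowerSeries.X = x' := by
  have := isAdicComplete (k := k) (r := r)
  obtain ⟨j, hj⟩ := exists_algHom (R := k) (σ := Unit) (maximalIdeal (ring k r))
    (fun _ => x') (fun _ => hx')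
  exact ⟨j, hj ()⟩

/-- The order comparison: a presentation `y''^2 = x'^s` of `ring k r` has `s = r + 1`. -/
theorem eq_of_presentation (h2 : (2 : k) ≠ 0) (hr : 1 ≤ r) {x' y'' : ring k r} {s : ℕ}
    (hm : maximalIdeal (ring k r) = Ideal.span {x', y''}) (h : y'' ^ 2 = x' ^ s)
    (j : PowerSeries k →ₐ[k] ring k r) (hj : j PowerSeries.X = x')
    (huniq : ∀ p q : PowerSeries k, j p + j q * y'' = 0 → p = 0 ∧ q = 0) : s = r + 1 := by
  have hx' : x' ∈ maximalIdeal (ring k r) := by rw [hm]; exact Ideal.subset_span (Or.inl rfl)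
  have hy'' : y'' ∈ maximalIdeal (ring k r) := by rw [hm]; exact Ideal.subset_span (Or.inr rfl)
  -- `y'' ∉ m^2`
  have hy2 : y'' ∉ maximalIdeal (ring k r) ^ 2 := by
    intro h3
    refine not_principal hr x' (eq_span_of_le ?_ ?_)
    · rw [Ideal.span_singleton_le_iff_mem]; exact hx'
    · conv_lhs => rw [hm]
      rw [Ideal.span_le]
      rintro a (rfl | rfl)
      · exact Ideal.mem_sup_left (Ideal.subset_span rfl)
      · exact Ideal.mem_sup_right h3
  have hs1 : s ≤ r + 1 := by
    by_contra hlt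
    apply hy2
    refine sq_mem hr hy'' ?_ h2
    rw [h]
    exact Ideal.pow_le_pow_right (by omega : r + 2 ≤ s) (Ideal.pow_mem_pow hx' _)
  have hs2 : 2 ≤ s := by
    by_contra hlt
    have : s = 0 ∨ s = 1 := by omega
    rcases this with rfl | rfl
    · rw [pow_zero] at h
      have h3 : y'' ^ 2 ∈ maximalIdeal (ring k r) := Ideal.pow_mem_of_mem _ hy'' _ (by norm_num)
      rw [h] at h3
      exact (Ideal.ne_top_iff_one _).1 Ideal.IsPrime.ne_top' h3
    · rw [pow_one] at h
      refine not_principal hr y'' (le_antisymm ?_ ?_)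
      · rw [hm, Ideal.span_le]
        rintro a (rfl | rfl)
        · rw [SetLike.mem_coe, ← h, Ideal.mem_span_singleton']
          exact ⟨y'', by ring⟩
        · exact Ideal.subset_span rfl
      · rw [Ideal.span_singleton_le_iff_mem]; exact hy''
  by_contra hne
  obtain ⟨t, rfl⟩ : ∃ t, s = t + 1 := ⟨s - 1, by omega⟩
  have := isAdicComplete (k := k) (r := r)
  obtain ⟨ψ, hψx, hψy⟩ := exists_hom (k := k) (r := t) (S := ring k r) hx' hy'' h
  have hsurj : Function.Surjective ψ := surjective_of_gen (exC k r) ψ (by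
    rw [hψx, hψy]; exact hm.le)
  have hψj : ∀ p, ψ (xMap k t p) = j p := by
    intro p
    have h3 : ψ.comp (xMap k t) = j := by
      apply ps_hom_ext (exC k r)
      rw [AlgHom.comp_apply, xMap_X, hψx, hj]
    exact DFunLike.congr_fun h3 p
  have hinj : Function.Injective ψ := by
    rw [injective_iff_map_eq_zero]
    intro a ha
    obtain ⟨p, q, rfl⟩ := exists_xy a
    rw [map_add, map_mul, hψj, hψj, hψy] at ha
    obtain ⟨h3, h4⟩ := huniq p q ha
    rw [h3, h4]; simp
  let e : ring k t ≃ₐ[k] ring k r := AlgEquiv.ofBijective ψ ⟨hinj, hsurj⟩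
  have ht : 1 ≤ t := by omega
  have hy : y k r ∈ maximalIdeal (ring k r) := y_mem
  have h3 : e.symm (y k r) ∈ maximalIdeal (ring k t) :=
    map_mem_maximalIdeal (exC k t) (e.symm : ring k r →ₐ[k] ring k t) hy
  have h4 : e.symm (y k r) ^ 2 ∈ maximalIdeal (ring k t) ^ (t + 2) := by
    rw [← map_pow, y_sq]
    refine map_mem_pow (exC k t) (e.symm : ring k r →ₐ[k] ring k t) (t + 2) ?_
    exact Ideal.pow_le_pow_right (by omega : t + 2 ≤ r + 1) (Ideal.pow_mem_pow x_mem _)
  have h5 := sq_mem ht h3 h4 h2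
  have h6 := map_mem_pow (exC k r) (e : ring k t →ₐ[k] ring k r) 2 h5
  change e (e.symm (y k r)) ∈ _ at h6
  rw [AlgEquiv.apply_symm_apply] at h6
  have h7 := lin_unique (k := k) (r := r) hr (α := 0) (β := 1) (by simpa using h6)
  exact one_ne_zero h7.2

/-- **Normal form of involutions** of `ring k r`, `r ≥ 2`. -/
theorem exists_normal [IsAlgClosed k] (h2 : (2 : k) ≠ 0) (hr : 2 ≤ r)
    (σ : ring k r ≃ₐ[k] ring k r) (hσ : ∀ a, σ (σ a) = a) :
    ∃ (φ : ring k r ≃ₐ[k] ring k r) (γ β : k), γ ^ 2 = 1 ∧ β ^ 2 = 1 ∧ γ ^ (r + 1) = 1 ∧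
      φ.symm (σ (φ (x k r))) = algebraMap k _ γ * x k r ∧
      φ.symm (σ (φ (y k r))) = algebraMap k _ β * y k r := by
  have hr1 : 1 ≤ r := by omega
  obtain ⟨x', y', γ, β, ε, hγ2, hβ2, hσx, hσy, hx2, hy2⟩ := exists_eigen h2 hr σ hσ
  have hx : x k r ∈ maximalIdeal (ring k r) := x_mem
  have hy : y k r ∈ maximalIdeal (ring k r) := y_mem
  have hle : maximalIdeal (ring k r) ^ 2 ≤ maximalIdeal (ring k r) := Ideal.pow_le_self (by norm_num)
  have hx'm : x' ∈ maximalIdeal (ring k r) := by
    have h3 := Ideal.add_mem _ (hle hx2) (Ideal.add_mem _ hx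
      (Ideal.mul_mem_left _ (algebraMap k (ring k r) ε) hy))
    rwa [sub_add_cancel] at h3
  have hy'm : y' ∈ maximalIdeal (ring k r) := by
    have h3 := Ideal.add_mem _ (hle hy2) hy
    rwa [sub_add_cancel] at h3
  have hm : maximalIdeal (ring k r) = Ideal.span {x', y'} := by
    refine eq_span_of_le ?_ ?_
    · rw [Ideal.span_le]
      rintro a (rfl | rfl)
      · exact hx'm
      · exact hy'm
    · have hyin : y k r ∈ Ideal.span {x', y'} ⊔ maximalIdeal (ring k r) ^ 2 := by
        have h3 := Ideal.sub_mem _ (Ideal.mem_sup_left (T := maximalIdeal (ring k r) ^ 2)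
          (Ideal.subset_span (Or.inr rfl) : y' ∈ Ideal.span {x', y'})) (Ideal.mem_sup_right hy2)
        rwa [sub_sub_cancel] at h3
      have hxin : x k r ∈ Ideal.span {x', y'} ⊔ maximalIdeal (ring k r) ^ 2 := by
        have h3 := Ideal.sub_mem _ (Ideal.sub_mem _
          (Ideal.mem_sup_left (T := maximalIdeal (ring k r) ^ 2)
          (Ideal.subset_span (Or.inl rfl) : x' ∈ Ideal.span {x', y'})) (Ideal.mem_sup_right hx2))
          (Ideal.mul_mem_left _ (algebraMap k (ring k r) ε) hyin)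
        have e : x' - (x' - (x k r + algebraMap k (ring k r) ε * y k r)) -
          algebraMap k (ring k r) ε * y k r = x k r := by ring
        rwa [e] at h3
      conv_lhs => rw [maximalIdeal_eq (k := k) (r := r)]
      rw [Ideal.span_le]
      rintro a (rfl | rfl)
      · exact hxin
      · exact hyin
  have hy'3 : y' ^ 2 ∈ maximalIdeal (ring k r) ^ 3 := by
    have h3 : y k r ^ 2 ∈ maximalIdeal (ring k r) ^ 3 := by
      rw [y_sq]
      exact Ideal.pow_le_pow_right (by omega : 3 ≤ r + 1) (Ideal.pow_mem_pow hx _)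
    have h4 := Ideal.mul_mem_mul hy2 (Ideal.add_mem _ hy'm hy)
    rw [← pow_succ] at h4
    have h5 := Ideal.add_mem _ h3 h4
    have e : y k r ^ 2 + (y' - y k r) * (y' + y k r) = y' ^ 2 := by ring
    rwa [e] at h5
  have hy'sq : y' ^ 2 ∈ Ideal.span {x'} := sq_mem_span hm hy'3
  have hx'nzd : x' ∈ nonZeroDivisors (ring k r) := by
    have hxs := hx
    rw [hm, Ideal.mem_span_pair] at hxs
    obtain ⟨a, b, hab⟩ := hxs
    obtain ⟨e, he⟩ := Ideal.mem_span_singleton'.1 hy'sq
    rw [mem_nonZeroDivisors_iff_right]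
    intro z hz
    have h3 : z * x k r * x k r = 0 := by
      rw [← hab]
      have h4 : z * (a * x' + b * y') * (a * x' + b * y') =
        (a * a * x' + 2 * a * b * y' + b * b * e) * (z * x') + z * b * b * (y' ^ 2 - e * x') := by
        ring
      rw [h4, hz, he, sub_self]; ring
    have hnz := x_mem_nonZeroDivisors (k := k) (r := r)
    exact (mem_nonZeroDivisors_iff_right.1 hnz) _ ((mem_nonZeroDivisors_iff_right.1 hnz) _ h3)
  have hy'n : y' ∉ Ideal.span {x'} := by
    intro h
    refine not_principal hr1 x' (hm.trans (le_antisymm ?_ ?_))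
    · rw [Ideal.span_le]
      rintro a (rfl | rfl)
      · exact Ideal.subset_span rfl
      · exact h
    · exact Ideal.span_mono (by simp)
  obtain ⟨j, hj⟩ := exists_j hx'm
  have hjm : ∀ {p : PowerSeries k}, PowerSeries.constantCoeff p = 0 → j p ∈ Ideal.span {x'} := by
    intro p hp
    obtain ⟨p', rfl, hp'⟩ := j_mem_span j hp
    rw [hp', hj]
    exact Ideal.mul_mem_right _ _ (Ideal.subset_span rfl)
  have hrep := exists_rep (exC k r) j (y' := y') (by rw [hj]; exact hm) (by rw [hj]; exact hy'sq)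
  have huniq : ∀ {p q : PowerSeries k}, j p + j q * y' = 0 → p = 0 ∧ q = 0 := fun {p q} h =>
    rep_unique (exC k r) j (by rw [hj]; exact hx'nzd) (by rw [hj]; exact hy'n) hy'm h
  have hinj : ∀ {p q p₁ q₁ : PowerSeries k}, j p + j q * y' = j p₁ + j q₁ * y' →
      p = p₁ ∧ q = q₁ := fun {p q p₁ q₁} h =>
    rep_inj (exC k r) j (by rw [hj]; exact hx'nzd) (by rw [hj]; exact hy'n) hy'm h
  have hjC : ∀ t : k, j (PowerSeries.C t) = algebraMap k (ring k r) t := fun t => j.commutes t
  have hσj : ∀ p, σ (j p) = j (PowerSeries.rescale γ p) := by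
    intro p
    have h3 : (σ : ring k r →ₐ[k] ring k r).comp j = j.comp (PowerSeries.rescaleAlgHom γ) := by
      apply ps_hom_ext (exC k r)
      change σ (j PowerSeries.X) = j (PowerSeries.rescaleAlgHom γ PowerSeries.X)
      rw [rescaleAlgHom_apply', PowerSeries.rescale_X, map_mul, hjC, hj, hσx]
    have h4 := DFunLike.congr_fun h3 p
    rwa [AlgHom.comp_apply, AlgHom.comp_apply, rescaleAlgHom_apply'] at h4
  have hββ : algebraMap k (ring k r) β * algebraMap k (ring k r) β = 1 := by
    rw [← map_mul, ← sq, hβ2, map_one]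
  have hββ' : (PowerSeries.C β * PowerSeries.C β : PowerSeries k) = 1 := by
    rw [← map_mul, ← sq, hβ2, map_one]
  -- the quadratic equation
  obtain ⟨a, b, hab⟩ := hrep (y' ^ 2)
  have hab' : j (PowerSeries.rescale γ a) + j (PowerSeries.C β * PowerSeries.rescale γ b) * y' =
      j a + j b * y' := by
    have h3 := congrArg σ hab
    rw [map_pow, map_add, map_mul, hσj, hσj, hσy] at h3
    rw [← hab, map_mul, hjC]
    linear_combination -h3 + y' ^ 2 * hββ
  obtain ⟨ha, hb⟩ := hinj hab'
  have ha0 : PowerSeries.constantCoeff a = 0 := by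
    apply constantCoeff_eq_zero (exC k r) j
    have h3 := Ideal.sub_mem _ (Ideal.pow_mem_of_mem _ hy'm 2 (by norm_num))
      (Ideal.mul_mem_left _ (j b) hy'm)
    rwa [hab, add_sub_cancel_right] at h3
  have hb0 : PowerSeries.constantCoeff b = 0 := by
    by_contra hne
    have hu := (isUnit_of_constantCoeff_ne hne).map j
    apply hy'n
    rw [← Ideal.unit_mul_mem_iff_mem _ hu]
    have h3 := Ideal.sub_mem _ hy'sq (hjm ha0)
    rwa [hab, add_sub_cancel_left] at h3
  have hh := half_add' (k := k) (A := ring k r) h2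
  have hh' := half_add' (k := k) (A := PowerSeries k) h2
  obtain ⟨H, hH⟩ : ∃ H : PowerSeries k, H = algebraMap k (PowerSeries k) 2⁻¹ := ⟨_, rfl⟩
  rw [← hH] at hh'
  have hHj : j H = algebraMap k (ring k r) 2⁻¹ := by rw [hH]; exact j.commutes _
  have hHr : PowerSeries.rescale γ H = H := by
    rw [hH, PowerSeries.algebraMap_apply]
    ext n
    rw [PowerSeries.coeff_rescale, PowerSeries.coeff_C]
    split_ifs with h
    · simp [h]
    · simp
  rw [← hHj] at hh
  set y₁ : ring k r := y' - j (H * b) with hy₁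
  obtain ⟨c, hc⟩ : ∃ c : PowerSeries k, c = a + (H * b) ^ 2 := ⟨_, rfl⟩
  have hy₁sq : y₁ ^ 2 = j c := by
    rw [hy₁, hc, map_add, map_pow, map_mul]
    linear_combination hab - j b * y' * hh
  have hcr : PowerSeries.rescale γ c = c := by
    rw [hc, map_add, map_pow, map_mul, ha, hHr]
    conv_rhs => rw [← hb]
    linear_combination (-(H ^ 2 * (PowerSeries.rescale γ b) ^ 2)) * hββ'
  have hc0 : PowerSeries.constantCoeff c = 0 := by rw [hc, map_add, map_pow, map_mul, ha0, hb0]; simp
  have hjHb : j (H * b) ∈ Ideal.span {x'} := hjm (by rw [map_mul, hb0, mul_zero])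
  have hy₁σ : σ y₁ = algebraMap k (ring k r) β * y₁ := by
    rw [hy₁, map_sub, hσy, hσj, map_mul, hHr]
    have h3 : j (PowerSeries.rescale γ b) = algebraMap k (ring k r) β * j b := by
      conv_rhs => rw [← hb]
      rw [map_mul, hjC]
      linear_combination (-(j (PowerSeries.rescale γ b))) * hββ
    rw [map_mul, map_mul, h3]; ring
  have hm₁ : maximalIdeal (ring k r) = Ideal.span {x', y₁} := by
    rw [hm]
    apply le_antisymm
    · rw [Ideal.span_le]
      have h3 : Ideal.span {x'} ≤ Ideal.span {x', y₁} := Ideal.span_mono (by simp)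
      rintro z (rfl | rfl)
      · exact Ideal.subset_span (Or.inl rfl)
      · have h4 := Ideal.add_mem _ (Ideal.subset_span (Or.inr rfl) : y₁ ∈ Ideal.span {x', y₁})
          (h3 hjHb)
        rwa [hy₁, sub_add_cancel] at h4
    · rw [Ideal.span_le]
      have h3 : Ideal.span {x'} ≤ Ideal.span {x', y'} := Ideal.span_mono (by simp)
      rintro z (rfl | rfl)
      · exact Ideal.subset_span (Or.inl rfl)
      · exact Ideal.sub_mem _ (Ideal.subset_span (Or.inr rfl)) (h3 hjHb)
  have hy₁m : y₁ ∈ maximalIdeal (ring k r) := by rw [hm₁]; exact Ideal.subset_span (Or.inr rfl)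
  have hy₁2 : y₁ ∉ maximalIdeal (ring k r) ^ 2 := by
    intro h3
    refine not_principal hr1 x' (eq_span_of_le ?_ ?_)
    · rw [Ideal.span_singleton_le_iff_mem]; exact hx'm
    · conv_lhs => rw [hm₁]
      rw [Ideal.span_le]
      rintro z (rfl | rfl)
      · exact Ideal.mem_sup_left (Ideal.subset_span rfl)
      · exact Ideal.mem_sup_right h3
  have hcne : c ≠ 0 := by
    rintro h3
    apply hy₁2
    refine sq_mem hr1 hy₁m ?_ h2
    rw [hy₁sq, h3, map_zero]
    exact zero_mem _
  obtain ⟨s, g, hcg, hg0⟩ := exists_eq_X_pow_mul hcne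
  have hγs : PowerSeries.C (γ ^ s) * PowerSeries.rescale γ g = g := by
    have h3 := hcr
    rw [hcg, map_mul, map_pow, PowerSeries.rescale_X] at h3
    have h4 : PowerSeries.X ^ s * (PowerSeries.C (γ ^ s) * PowerSeries.rescale γ g) =
        PowerSeries.X ^ s * g := by
      rw [← h3, map_pow]; ring
    exact mul_left_cancel₀ (pow_ne_zero _ PowerSeries.X_ne_zero) h4
  have hγs1 : γ ^ s = 1 := by
    have h3 := congrArg PowerSeries.constantCoeff hγs
    rw [map_mul, constantCoeff_rescale', PowerSeries.constantCoeff_C] at h3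
    have h4 : (γ ^ s - 1) * PowerSeries.constantCoeff g = 0 := by linear_combination h3
    exact sub_eq_zero.1 ((mul_eq_zero.1 h4).resolve_right hg0)
  have hgr : PowerSeries.rescale γ g = g := by
    rw [hγs1, map_one, one_mul] at hγs; exact hγs
  obtain ⟨v, hv⟩ := exists_sq_ps h2 g hg0
  have hvr : PowerSeries.rescale γ v = v := rescale_eq_of_sq h2 hg0 hv hgr
  have hv0 : PowerSeries.constantCoeff v ≠ 0 := by
    intro h
    apply hg0
    rw [← hv, map_pow, h]; ring
  have hvu := isUnit_of_constantCoeff_ne hv0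
  obtain ⟨w, hw⟩ := hvu.exists_right_inv
  have hwr : PowerSeries.rescale γ w = w := by
    have h3 := congrArg (PowerSeries.rescale γ) hw
    rw [map_mul, hvr, map_one] at h3
    have h4 : v * PowerSeries.rescale γ w = v * w := by rw [h3, hw]
    exact hvu.mul_left_cancel h4
  have hwu : IsUnit w := IsUnit.of_mul_eq_one v (by rw [mul_comm]; exact hw)
  have hjwu : IsUnit (j w) := hwu.map j
  obtain ⟨y₂, hy₂⟩ : ∃ y₂ : ring k r, y₂ = j w * y₁ := ⟨_, rfl⟩
  have hy₂sq : y₂ ^ 2 = x' ^ s := by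
    rw [hy₂, mul_pow, hy₁sq, ← map_pow, ← map_mul, hcg, ← hv]
    have e : w ^ 2 * (PowerSeries.X ^ s * v ^ 2) = PowerSeries.X ^ s := by
      linear_combination (PowerSeries.X ^ s * (v * w + 1)) * hw
    rw [e, map_pow, hj]
  have hy₂σ : σ y₂ = algebraMap k (ring k r) β * y₂ := by
    rw [hy₂, map_mul, hσj, hwr, hy₁σ]; ring
  have hm₂ : maximalIdeal (ring k r) = Ideal.span {x', y₂} := by
    rw [hm₁, hy₂, Ideal.span_insert, Ideal.span_insert, Ideal.span_singleton_mul_left_unit hjwu]
  have hs : s = r + 1 := by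
    refine eq_of_presentation h2 hr1 hm₂ hy₂sq j hj ?_
    intro p q h3
    have h4 : j (p - q * w * (H * b)) + j (q * w) * y' = 0 := by
      rw [← h3, hy₂, hy₁]
      simp only [map_sub, map_mul]
      ring
    obtain ⟨h5, h6⟩ := huniq h4
    have h7 : q = 0 := (mul_eq_zero.1 h6).resolve_right hwu.ne_zero
    rw [h7, zero_mul, zero_mul, sub_zero] at h5
    exact ⟨h5, h7⟩
  subst hs
  have hy₂m : y₂ ∈ maximalIdeal (ring k r) := by rw [hm₂]; exact Ideal.subset_span (Or.inr rfl)
  obtain ⟨φ, hφx, hφy⟩ := exists_equiv (k := k) (r := r) hx'm hy₂m hy₂sq hm₂.le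
  refine ⟨φ, γ, β, hγ2, hβ2, hγs1, ?_, ?_⟩
  · rw [AlgEquiv.symm_apply_eq, map_mul, AlgEquiv.commutes, hφx, hσx]
  · rw [AlgEquiv.symm_apply_eq, map_mul, AlgEquiv.commutes, hφy, hy₂σ]

end K813.Invol2
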