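import Groth.Agent.ArSing.K813.Ring
import Mathlib.RingTheory.DiscreteValuationRing.Basic
import Mathlib.RingTheory.PowerSeries.Inverse
import Mathlib.RingTheory.Length
import Mathlib.RingTheory.RingHom.Flat

/-!
# Lengths of quotients, rescaling, bases for the rings `ArSing.ring k r`
-/

set_option autoImplicit false

namespace K813.Len

open IsLocalRing ArSing K813.NF K813.Basic K813.Ring

universe u v

/-- If `k[[t]] → B/I` is surjective with kernel `(t^n)`, then `B/I` has length `n` over `B`. -/
theorem length_quotient_eq {k : Type u} [Field k] {B : Type v} [CommRing B] (I : Ideal B)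
    (j : PowerSeries k →+* B) (n : ℕ)
    (hs : Function.Surjective ((Ideal.Quotient.mk I).comp j))
    (hk : RingHom.ker ((Ideal.Quotient.mk I).comp j) = Ideal.span {PowerSeries.X ^ n}) :
    Module.length B (B ⧸ I) = n := by
  rw [Module.length_eq_of_surjective (S := B) (R := B ⧸ I) (M := B ⧸ I) Ideal.Quotient.mk_surjective]
  let : Algebra (PowerSeries k) (B ⧸ I) := ((Ideal.Quotient.mk I).comp j).toAlgebra
  rw [← Module.length_eq_of_surjective (S := PowerSeries k) (R := B ⧸ I) (M := B ⧸ I) hs]
  have hk' : LinearMap.ker (Algebra.linearMap (PowerSeries k) (B ⧸ I)) =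
      maximalIdeal (PowerSeries k) ^ n := by
    rw [PowerSeries.maximalIdeal_eq_span_X, Ideal.span_singleton_pow, ← hk]
    rfl
  rw [← (LinearMap.quotKerEquivOfSurjective (Algebra.linearMap (PowerSeries k) (B ⧸ I)) hs).length_eq,
    hk']
  exact IsDiscreteValuationRing.length_quotient_pow_maximalIdeal _ n

/-- Uniqueness of algebra maps out of `k[[t]]`. -/
theorem ps_hom_ext {k : Type u} [Field k] {S : Type v} [CommRing S] [IsLocalRing S]
    [IsNoetherianRing S] [Algebra k S]
    (hS : ∀ b : S, ∃ t : k, b - algebraMap k S t ∈ maximalIdeal S) {f g : PowerSeries k →ₐ[k] S}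
    (h : f PowerSeries.X = g PowerSeries.X) : f = g := by
  refine K813.Basic.algHom_ext (R := k) (σ := Unit) (maximalIdeal S) (f := f) (g := g)
    ?_ (fun _ => h)
  intro i
  exact map_mem_maximalIdeal hS f (X_mem_maximalIdeal i)

variable {k : Type u} [Field k] {r : ℕ}

theorem rescaleAlgHom_apply' (c : k) (h : PowerSeries k) :
    PowerSeries.rescaleAlgHom c h = PowerSeries.rescale c h :=
  DFunLike.congr_fun (PowerSeries.coe_rescaleAlgHom c) h

theorem map_xMap_of_fix {σ : ring k r →ₐ[k] ring k r} (hx : σ (x k r) = x k r) (p : PowerSeries k) :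
    σ (xMap k r p) = xMap k r p := by
  have h : σ.comp (xMap k r) = xMap k r := by
    apply ps_hom_ext (exC k r)
    rw [AlgHom.comp_apply, xMap_X, hx]
  exact DFunLike.congr_fun h p

theorem map_xMap_of_neg {σ : ring k r →ₐ[k] ring k r} (hx : σ (x k r) = -x k r)
    (p : PowerSeries k) : σ (xMap k r p) = xMap k r (PowerSeries.rescale (-1) p) := by
  have h : σ.comp (xMap k r) = (xMap k r).comp (PowerSeries.rescaleAlgHom (-1)) := by
    apply ps_hom_ext (exC k r)
    rw [AlgHom.comp_apply, AlgHom.comp_apply, xMap_X, hx, rescaleAlgHom_apply',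
      PowerSeries.rescale_X, map_mul, xMap_X, xMap_C, map_neg, map_one]
    ring
  have := DFunLike.congr_fun h p
  rwa [AlgHom.comp_apply, AlgHom.comp_apply, rescaleAlgHom_apply'] at this

theorem xy_mul_y (p q : PowerSeries k) : (xMap k r p + xMap k r q * y k r) * y k r =
    xMap k r (q * PowerSeries.X ^ (r + 1)) + xMap k r p * y k r := by
  rw [map_mul, map_pow, xMap_X, ← y_sq]; ring

theorem xy_mul_x (p q : PowerSeries k) : (xMap k r p + xMap k r q * y k r) * x k r =
    xMap k r (p * PowerSeries.X) + xMap k r (q * PowerSeries.X) * y k r := by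
  rw [map_mul, map_mul, xMap_X]; ring

theorem xy_inj {p q p' q' : PowerSeries k}
    (h : xMap k r p + xMap k r q * y k r = xMap k r p' + xMap k r q' * y k r) :
    p = p' ∧ q = q' := by
  have h1 : xMap k r (p - p') + xMap k r (q - q') * y k r = 0 := by
    rw [map_sub, map_sub]; linear_combination h
  have h2 := xy_unique h1
  exact ⟨sub_eq_zero.1 h2.1, sub_eq_zero.1 h2.2⟩

theorem y_mem_nonZeroDivisors : y k r ∈ nonZeroDivisors (ring k r) := by
  rw [mem_nonZeroDivisors_iff_right]
  intro a ha
  obtain ⟨p, q, rfl⟩ := exists_xy a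
  rw [xy_mul_y] at ha
  obtain ⟨h1, h2⟩ := xy_unique ha
  have h3 : q = 0 := by
    rcases mul_eq_zero.1 h1 with h | h
    · exact h
    · exact absurd (pow_eq_zero_iff (by omega) |>.1 h) PowerSeries.X_ne_zero
  rw [h2, h3]; simp

theorem x_mem_nonZeroDivisors : x k r ∈ nonZeroDivisors (ring k r) := by
  rw [mem_nonZeroDivisors_iff_right]
  intro a ha
  obtain ⟨p, q, rfl⟩ := exists_xy a
  rw [xy_mul_x] at ha
  obtain ⟨h1, h2⟩ := xy_unique ha
  have h3 : p = 0 := (mul_eq_zero.1 h1).resolve_right PowerSeries.X_ne_zero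
  have h4 : q = 0 := (mul_eq_zero.1 h2).resolve_right PowerSeries.X_ne_zero
  rw [h3, h4]; simp

end K813.Len
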