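import Groth.Agent.ArSing.K813.EvOdd

/-!
# Linear parts in the rings `ArSing.ring k r`
-/

set_option autoImplicit false

namespace K813.Lin

open IsLocalRing ArSing K813.NF K813.Basic K813.Ring K813.Len K813.EvOdd

universe u v

variable {k : Type u} [Field k] {r : ℕ}

theorem xy_mul_xy (a b p q : PowerSeries k) :
    (xMap k r a + xMap k r b * y k r) * (xMap k r p + xMap k r q * y k r) =
      xMap k r (a * p + b * q * PowerSeries.X ^ (r + 1)) + xMap k r (a * q + b * p) * y k r := by
  simp only [map_add, map_mul, map_pow, xMap_X, ← y_sq]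
  ring

/-- The square of the maximal ideal, `r ≥ 1`. -/
theorem sq_maximalIdeal (hr : 1 ≤ r) :
    maximalIdeal (ring k r) ^ 2 = Ideal.span {x k r} * maximalIdeal (ring k r) := by
  apply le_antisymm
  · rw [sq]
    conv_lhs => rw [maximalIdeal_eq (k := k) (r := r)]
    rw [Ideal.span_pair_mul_span_pair, Ideal.span_le]
    obtain ⟨s, rfl⟩ : ∃ s, r = s + 1 := ⟨r - 1, by omega⟩
    have hxx : x k (s + 1) * x k (s + 1) ∈
        Ideal.span {x k (s + 1)} * maximalIdeal (ring k (s + 1)) :=
      Ideal.mul_mem_mul (Ideal.subset_span rfl) x_mem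
    have hxy : x k (s + 1) * y k (s + 1) ∈
        Ideal.span {x k (s + 1)} * maximalIdeal (ring k (s + 1)) :=
      Ideal.mul_mem_mul (Ideal.subset_span rfl) y_mem
    rintro a (rfl | rfl | rfl | rfl)
    · exact hxx
    · exact hxy
    · rw [mul_comm]; exact hxy
    · rw [SetLike.mem_coe, ← sq, y_sq]
      have : x k (s + 1) ^ (s + 1 + 1) = (x k (s + 1) * x k (s + 1)) * x k (s + 1) ^ s := by ring
      rw [this]
      exact Ideal.mul_mem_right _ _ hxx
  · rw [sq]
    refine Ideal.mul_mono ?_ le_rfl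
    rw [Ideal.span_singleton_le_iff_mem]
    exact x_mem

theorem pow_maximalIdeal (hr : 1 ≤ r) (n : ℕ) :
    maximalIdeal (ring k r) ^ (n + 1) = Ideal.span {x k r ^ n} * maximalIdeal (ring k r) := by
  induction n with
  | zero => simp
  | succ n ih =>
    rw [pow_succ, ih, mul_assoc, ← sq, sq_maximalIdeal hr, ← mul_assoc,
      Ideal.span_singleton_mul_span_singleton, ← pow_succ]

theorem mem_pow_maximalIdeal (hr : 1 ≤ r) (n : ℕ) {p q : PowerSeries k} :
    xMap k r p + xMap k r q * y k r ∈ maximalIdeal (ring k r) ^ (n + 1) ↔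
      PowerSeries.X ^ (n + 1) ∣ p ∧ PowerSeries.X ^ n ∣ q := by
  rw [pow_maximalIdeal hr, Ideal.mem_span_singleton_mul]
  constructor
  · rintro ⟨z, hz, h⟩
    obtain ⟨a, b, rfl⟩ := exists_xy z
    rw [mem_maximalIdeal_xy] at hz
    obtain ⟨a', rfl⟩ := PowerSeries.X_dvd_iff.2 hz
    have h1 : xMap k r (PowerSeries.X ^ (n + 1) * a') + xMap k r (PowerSeries.X ^ n * b) * y k r =
        xMap k r p + xMap k r q * y k r := by
      rw [← h]
      simp only [map_mul, map_pow, xMap_X]
      ring
    obtain ⟨h2, h3⟩ := xy_inj h1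
    exact ⟨⟨a', h2.symm⟩, ⟨b, h3.symm⟩⟩
  · rintro ⟨⟨a, rfl⟩, ⟨b, rfl⟩⟩
    refine ⟨xMap k r (PowerSeries.X * a) + xMap k r b * y k r, ?_, ?_⟩
    · rw [mem_maximalIdeal_xy]; simp
    · simp only [map_mul, map_pow, xMap_X]
      ring

theorem exists_lin (hr : 1 ≤ r) {a : ring k r} (ha : a ∈ maximalIdeal (ring k r)) :
    ∃ α β : k, a - (algebraMap k (ring k r) α * x k r + algebraMap k (ring k r) β * y k r) ∈
      maximalIdeal (ring k r) ^ 2 := by
  obtain ⟨p, q, rfl⟩ := exists_xy a
  rw [mem_maximalIdeal_xy] at ha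
  obtain ⟨p', rfl⟩ := PowerSeries.X_dvd_iff.2 ha
  refine ⟨PowerSeries.constantCoeff p', PowerSeries.constantCoeff q, ?_⟩
  have h1 : xMap k r (PowerSeries.X * p') + xMap k r q * y k r -
      (algebraMap k (ring k r) (PowerSeries.constantCoeff p') * x k r +
        algebraMap k (ring k r) (PowerSeries.constantCoeff q) * y k r) =
      xMap k r (PowerSeries.X * (p' - PowerSeries.C (PowerSeries.constantCoeff p'))) +
        xMap k r (q - PowerSeries.C (PowerSeries.constantCoeff q)) * y k r := by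
    rw [← xMap_C, ← xMap_C]
    simp only [map_mul, map_sub, xMap_X]
    ring
  rw [h1, mem_pow_maximalIdeal hr 1]
  constructor
  · rw [sq]
    exact mul_dvd_mul_left _ (PowerSeries.X_dvd_iff.2 (by simp))
  · rw [pow_one]
    exact PowerSeries.X_dvd_iff.2 (by simp)

theorem lin_unique (hr : 1 ≤ r) {α β : k}
    (h : algebraMap k (ring k r) α * x k r + algebraMap k (ring k r) β * y k r ∈
      maximalIdeal (ring k r) ^ 2) : α = 0 ∧ β = 0 := by
  have h1 : algebraMap k (ring k r) α * x k r + algebraMap k (ring k r) β * y k r =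
      xMap k r (PowerSeries.C α * PowerSeries.X) + xMap k r (PowerSeries.C β) * y k r := by
    rw [map_mul, xMap_C, xMap_C, xMap_X]
  rw [h1, mem_pow_maximalIdeal hr 1] at h
  obtain ⟨h2, h3⟩ := h
  constructor
  · rw [mul_comm, sq] at h2
    have h4 := (mul_dvd_mul_iff_left PowerSeries.X_ne_zero).1 h2
    simpa using PowerSeries.X_dvd_iff.1 h4
  · rw [pow_one] at h3
    simpa using PowerSeries.X_dvd_iff.1 h3

/-- If `v ∈ m` and `v^2 ∈ m^(r+2)` then `v ∈ m^2`. -/
theorem sq_mem (hr : 1 ≤ r) {v : ring k r} (hv : v ∈ maximalIdeal (ring k r))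
    (h : v ^ 2 ∈ maximalIdeal (ring k r) ^ (r + 2)) (h2 : (2 : k) ≠ 0) :
    v ∈ maximalIdeal (ring k r) ^ 2 := by
  obtain ⟨p, q, rfl⟩ := exists_xy v
  rw [mem_maximalIdeal_xy] at hv
  rw [sq, xy_mul_xy, mem_pow_maximalIdeal hr (r + 1)] at h
  obtain ⟨h3, h4⟩ := h
  rw [mem_pow_maximalIdeal hr 1, pow_one]
  have h2' : IsUnit (2 : PowerSeries k) := by
    have := (IsUnit.mk0 (2 : k) h2).map (algebraMap k (PowerSeries k))
    rwa [map_ofNat] at this
  have h4' : PowerSeries.X ^ (r + 1) ∣ p * q := by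
    have e : p * q + q * p = 2 * (p * q) := by ring
    rw [e] at h4
    exact (h2'.dvd_mul_left).1 h4
  have hq : PowerSeries.X ∣ q := by
    by_contra hne
    have hq0 : PowerSeries.constantCoeff q ≠ 0 := fun h => hne (PowerSeries.X_dvd_iff.2 h)
    have hqu : IsUnit q := by
      rw [PowerSeries.isUnit_iff_constantCoeff]; exact IsUnit.mk0 _ hq0
    have h5 : PowerSeries.X ^ (r + 1) ∣ p := (hqu.dvd_mul_right).1 h4'
    obtain ⟨p', rfl⟩ := h5
    obtain ⟨c, hc⟩ := h3
    have h6 : PowerSeries.X ^ (r + 1) * (q * q) =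
        PowerSeries.X ^ (r + 1) * (PowerSeries.X * (c - PowerSeries.X ^ r * (p' * p'))) := by
      linear_combination hc
    have h7 := mul_left_cancel₀ (pow_ne_zero _ PowerSeries.X_ne_zero) h6
    have h8 := congrArg PowerSeries.constantCoeff h7
    rw [map_mul, map_mul, PowerSeries.constantCoeff_X, zero_mul] at h8
    exact hq0 (mul_self_eq_zero.1 h8)
  refine ⟨?_, hq⟩
  obtain ⟨q', rfl⟩ := hq
  obtain ⟨p', rfl⟩ := PowerSeries.X_dvd_iff.2 hv
  obtain ⟨s, rfl⟩ : ∃ s, r = s + 1 := ⟨r - 1, by omega⟩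
  obtain ⟨c, hc⟩ := h3
  have h6 : PowerSeries.X ^ 2 * (p' * p') =
      PowerSeries.X ^ 2 * (PowerSeries.X * (PowerSeries.X ^ s * c -
        PowerSeries.X ^ (s + 1) * (q' * q'))) := by
    linear_combination hc
  have h7 := mul_left_cancel₀ (pow_ne_zero _ PowerSeries.X_ne_zero) h6
  have h8 := congrArg PowerSeries.constantCoeff h7
  rw [map_mul, map_mul, PowerSeries.constantCoeff_X, zero_mul] at h8
  rw [sq]
  exact mul_dvd_mul_left _ (PowerSeries.X_dvd_iff.2 (mul_self_eq_zero.1 h8))

/-- The maximal ideal of `ring k r` is not principal for `r ≥ 1`. -/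
theorem not_principal (hr : 1 ≤ r) (g : ring k r)
    (hg : maximalIdeal (ring k r) = Ideal.span {g}) : False := by
  have hgm : g ∈ maximalIdeal (ring k r) := by rw [hg]; exact Ideal.subset_span rfl
  obtain ⟨α, β, h⟩ := exists_lin hr hgm
  have hx1 : x k r ∈ Ideal.span {g} := by rw [← hg]; exact x_mem
  have hy1 : y k r ∈ Ideal.span {g} := by rw [← hg]; exact y_mem
  rw [Ideal.mem_span_singleton'] at hx1 hy1
  obtain ⟨a, ha⟩ := hx1
  obtain ⟨b, hb⟩ := hy1
  obtain ⟨s, hs⟩ := exC k r a
  obtain ⟨t, ht⟩ := exC k r b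
  have e1 : ∀ (c : ring k r) (s : k) (z : ring k r), c * g = z →
      c - algebraMap k (ring k r) s ∈ maximalIdeal (ring k r) →
      z - (algebraMap k (ring k r) (s * α) * x k r + algebraMap k (ring k r) (s * β) * y k r) ∈
        maximalIdeal (ring k r) ^ 2 := by
    intro c s z hz hc
    have h1 := Ideal.mul_mem_mul hc hgm
    rw [← sq] at h1
    have h3 := Ideal.add_mem _ h1 (Ideal.mul_mem_left _ (algebraMap k (ring k r) s) h)
    have e : z - (algebraMap k (ring k r) (s * α) * x k r +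
        algebraMap k (ring k r) (s * β) * y k r) =
        (c - algebraMap k (ring k r) s) * g + algebraMap k (ring k r) s * (g -
        (algebraMap k (ring k r) α * x k r + algebraMap k (ring k r) β * y k r)) := by
      rw [← hz, map_mul, map_mul]; ring
    rw [e]; exact h3
  have h1 := e1 a s _ ha hs
  have h3 := e1 b t _ hb ht
  have h4 := lin_unique (k := k) (r := r) hr (α := 1 - s * α) (β := 0 - s * β) (by
    have e : algebraMap k (ring k r) (1 - s * α) * x k r +
        algebraMap k (ring k r) (0 - s * β) * y k r = x k r -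
        (algebraMap k (ring k r) (s * α) * x k r + algebraMap k (ring k r) (s * β) * y k r) := by
      rw [map_sub, map_sub, map_one, map_zero]; ring
    rw [e]; exact h1)
  have h5 := lin_unique (k := k) (r := r) hr (α := 0 - t * α) (β := 1 - t * β) (by
    have e : algebraMap k (ring k r) (0 - t * α) * x k r +
        algebraMap k (ring k r) (1 - t * β) * y k r = y k r -
        (algebraMap k (ring k r) (t * α) * x k r + algebraMap k (ring k r) (t * β) * y k r) := by
      rw [map_sub, map_sub, map_one, map_zero]; ring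
    rw [e]; exact h3)
  have h6 : s * α = 1 := (sub_eq_zero.1 h4.1).symm
  have h7 : s * β = 0 := by have := h4.2; simpa using this
  have h8 : t * β = 1 := (sub_eq_zero.1 h5.2).symm
  have hs0 : s ≠ 0 := by rintro rfl; simp at h6
  have hβ : β = 0 := (mul_eq_zero.1 h7).resolve_left hs0
  rw [hβ, mul_zero] at h8
  exact zero_ne_one h8

end K813.Lin
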