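import Groth.Agent.ArSing.K813.Basic
import Groth.Prelude.Def_W4c1arstab1appArSing
import Mathlib.RingTheory.PowerSeries.WeierstrassPreparation
import Mathlib.RingTheory.PowerSeries.NoZeroDivisors
import Mathlib.RingTheory.PowerSeries.Ideal

/-!
# Coordinates on `k[[x,y]]` and normal forms modulo `y^2 - c(x)`
-/

set_option autoImplicit false

namespace K813.NF

open IsLocalRing

universe u v

section Coord

/-- `Fin 2 ≃ Option Unit` with `1 ↦ none`. -/
def idx : Fin 2 ≃ Option Unit where
  toFun := ![some (), none]
  invFun := fun o => o.elim 1 (fun _ => 0)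
  left_inv := by decide
  right_inv := by decide

variable (k : Type u) [CommRing k]

/-- `k[[x,y]] = k[[x]][[y]]`. -/
noncomputable def E : MvPowerSeries (Fin 2) k ≃ₐ[k] PowerSeries (PowerSeries k) :=
  (MvPowerSeries.renameEquiv k idx).trans (MvPowerSeries.optionEquivLeft Unit k)

theorem E_X1 : E k (MvPowerSeries.X 1) = PowerSeries.X := by
  change MvPowerSeries.optionEquivLeft Unit k (MvPowerSeries.rename idx (MvPowerSeries.X 1)) = _
  rw [MvPowerSeries.rename_X]
  exact MvPowerSeries.optionEquivLeft_X_none

theorem E_X0 : E k (MvPowerSeries.X 0) = PowerSeries.C PowerSeries.X := by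
  change MvPowerSeries.optionEquivLeft Unit k (MvPowerSeries.rename idx (MvPowerSeries.X 0)) = _
  rw [MvPowerSeries.rename_X]
  exact MvPowerSeries.optionEquivLeft_X_some ()

theorem coeff_coeff_E (p : MvPowerSeries (Fin 2) k) (m n : ℕ) :
    PowerSeries.coeff m (PowerSeries.coeff n (E k p)) =
      MvPowerSeries.coeff (Finsupp.single 0 m + Finsupp.single 1 n) p := by
  change MvPowerSeries.coeff (Finsupp.single () m) (PowerSeries.coeff n
    (MvPowerSeries.optionEquivLeft Unit k (MvPowerSeries.rename idx p))) = _
  rw [MvPowerSeries.coeff_coeff_optionEquivLeft]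
  have h1 : (Finsupp.single () m).optionElim n =
      Finsupp.embDomain (idx.toEmbedding) (Finsupp.single 0 m + Finsupp.single 1 n) := by
    ext a
    rw [Finsupp.embDomain_eq_mapDomain, Finsupp.mapDomain_add, Finsupp.mapDomain_single,
      Finsupp.mapDomain_single]
    cases a with
    | none =>
      simp [idx]
    | some a =>
      simp [idx]
  rw [h1]
  exact MvPowerSeries.coeff_embDomain_rename ..

/-- The embedding `k[[t]] → k[[x,y]]`, `t ↦ x`. -/
noncomputable def incl : PowerSeries k →ₐ[k] MvPowerSeries (Fin 2) k :=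
  PowerSeries.substAlgHom
      (PowerSeries.HasSubst.of_constantCoeff_zero
        (MvPowerSeries.constantCoeff_X (0 : Fin 2) : MvPowerSeries.constantCoeff
          (MvPowerSeries.X (0 : Fin 2) : MvPowerSeries (Fin 2) k) = 0))

theorem incl_X : incl k PowerSeries.X = MvPowerSeries.X 0 :=
  PowerSeries.substAlgHom_X _

/-- The constants as an algebra map. -/
noncomputable def CAlgHom : PowerSeries k →ₐ[k] PowerSeries (PowerSeries k) where
  __ := (PowerSeries.C : PowerSeries k →+* PowerSeries (PowerSeries k))
  commutes' r := by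
    rw [PowerSeries.algebraMap_apply, PowerSeries.algebraMap_apply]
    rfl

theorem CAlgHom_apply (p : PowerSeries k) : CAlgHom k p = PowerSeries.C p := rfl

end Coord

section Field

variable (k : Type u) [Field k]

theorem E_incl (p : PowerSeries k) : E k (incl k p) = PowerSeries.C p := by
  have h : ((E k : MvPowerSeries (Fin 2) k →ₐ[k] PowerSeries (PowerSeries k)).comp (incl k)) =
      CAlgHom k := by
    refine K813.Basic.algHom_ext (R := k) (σ := Unit) (maximalIdeal (PowerSeries (PowerSeries k)))
      ?_ ?_
    · intro i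
      change E k (incl k PowerSeries.X) ∈ _
      rw [incl_X, E_X0, IsLocalRing.mem_maximalIdeal, mem_nonunits_iff,
        PowerSeries.isUnit_iff_constantCoeff, PowerSeries.constantCoeff_C]
      intro h
      rw [PowerSeries.isUnit_iff_constantCoeff] at h
      simp at h
    · intro i
      change E k (incl k PowerSeries.X) = PowerSeries.C PowerSeries.X
      rw [incl_X, E_X0]
  exact DFunLike.congr_fun h p

theorem isAdicComplete_ps : IsAdicComplete (maximalIdeal (PowerSeries k)) (PowerSeries k) :=
  Groth.Agent.Ega41.MvPS.isAdicComplete_maximalIdeal (σ := Unit) k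

/-- `Y ^ 2 - c` as a polynomial over `k[[x]]`. -/
noncomputable def gp (c : PowerSeries k) : Polynomial (PowerSeries k) :=
  Polynomial.X ^ 2 - Polynomial.C c

variable {k}

theorem gp_natDegree (c : PowerSeries k) : (gp k c).natDegree = 2 := by
  rw [gp]; exact Polynomial.natDegree_X_pow_sub_C

theorem gp_monic (c : PowerSeries k) : (gp k c).Monic :=
  Polynomial.monic_X_pow_sub_C c (by norm_num)

theorem gp_dist {c : PowerSeries k} (hc : PowerSeries.constantCoeff c = 0) :
    (gp k c).IsDistinguishedAt (maximalIdeal (PowerSeries k)) := by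
  refine ⟨⟨?_⟩, gp_monic c⟩
  intro n hn
  rw [gp_natDegree] at hn
  interval_cases n
  · simp only [gp, Polynomial.coeff_sub, Polynomial.coeff_X_pow, Polynomial.coeff_C]
    rw [K813.Basic.mem_maximalIdeal_iff (σ := Unit)]
    change PowerSeries.constantCoeff _ = 0
    simp [hc]
  · simp [gp, Polynomial.coeff_X_pow]

theorem coe_gp (c : PowerSeries k) : ((gp k c : Polynomial (PowerSeries k)) :
    PowerSeries (PowerSeries k)) = PowerSeries.X ^ 2 - PowerSeries.C c := by
  simp [gp]

theorem order_gp {c : PowerSeries k} (hc : PowerSeries.constantCoeff c = 0) :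
    (((gp k c : Polynomial (PowerSeries k)) : PowerSeries (PowerSeries k)).map
      (Ideal.Quotient.mk (maximalIdeal (PowerSeries k)))).order.toNat = 2 := by
  have hne : maximalIdeal (PowerSeries k) ≠ ⊤ := Ideal.IsPrime.ne_top'
  have h := (gp_dist hc).coe_natDegree_eq_order_map (gp k c) 1
    (by rwa [PowerSeries.constantCoeff_one, ← Ideal.ne_top_iff_one]) (by simp)
  have h2 := congrArg ENat.toNat h
  rw [ENat.toNat_natCast] at h2
  rw [← h2, gp_natDegree]

theorem exists_nf_ps {c : PowerSeries k} (hc : PowerSeries.constantCoeff c = 0)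
    (f : PowerSeries (PowerSeries k)) :
    ∃ (q : PowerSeries (PowerSeries k)) (a b : PowerSeries k),
      f = (PowerSeries.X ^ 2 - PowerSeries.C c) * q + (PowerSeries.C a +
        PowerSeries.C b * PowerSeries.X) := by
  have := isAdicComplete_ps k
  have hne : maximalIdeal (PowerSeries k) ≠ ⊤ := Ideal.IsPrime.ne_top'
  have hd := gp_dist hc
  have hw := hd.isWeierstrassDivisorAt hne
  have hdiv := hw.isWeierstrassDivisionAt_div_mod f
  have hord := order_gp hc
  have h1 := hdiv.degree_lt
  rw [hord] at h1
  have h2 := hdiv.eq_mul_add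
  generalize hw.div f = q at h2
  generalize hw.mod f = r at h1 h2
  refine ⟨q, r.coeff 0, r.coeff 1, h2.trans ?_⟩
  rw [coe_gp]
  congr 1
  have h3 : r.natDegree ≤ 1 := by
    rw [Polynomial.natDegree_le_iff_degree_le]
    exact Order.le_of_lt_succ h1
  conv_lhs => rw [Polynomial.eq_X_add_C_of_natDegree_le_one h3]
  simp [add_comm]

theorem nf_unique_ps {c : PowerSeries k} (hc : PowerSeries.constantCoeff c = 0)
    {q : PowerSeries (PowerSeries k)} {a b : PowerSeries k}
    (h : (PowerSeries.X ^ 2 - PowerSeries.C c) * q = PowerSeries.C a +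
        PowerSeries.C b * PowerSeries.X) : a = 0 ∧ b = 0 := by
  have := isAdicComplete_ps k
  have hne : maximalIdeal (PowerSeries k) ≠ ⊤ := Ideal.IsPrime.ne_top'
  have hd := gp_dist hc
  have hw := hd.isWeierstrassDivisorAt hne
  have hord := order_gp hc
  have h1 := hw.eq_zero_of_mul_eq (q := q) (r := Polynomial.C b * Polynomial.X + Polynomial.C a)
    (by
      rw [hord]
      exact lt_of_le_of_lt Polynomial.degree_linear_le (by norm_num)) (by
      rw [coe_gp, h]; simp [add_comm])
  have h2 := h1.2
  constructor
  · have := congrArg (fun p => Polynomial.coeff p 0) h2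
    simpa using this
  · have := congrArg (fun p => Polynomial.coeff p 1) h2
    simpa using this

theorem exists_nf {c : PowerSeries k} (hc : PowerSeries.constantCoeff c = 0)
    (f : MvPowerSeries (Fin 2) k) :
    ∃ (q : MvPowerSeries (Fin 2) k) (a b : PowerSeries k),
      f = (MvPowerSeries.X 1 ^ 2 - incl k c) * q + (incl k a +
        incl k b * MvPowerSeries.X 1) := by
  obtain ⟨q, a, b, h⟩ := exists_nf_ps hc (E k f)
  refine ⟨(E k).symm q, a, b, (E k).injective ?_⟩
  simp only [map_add, map_mul, map_sub, map_pow, E_X1, E_incl, AlgEquiv.apply_symm_apply]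
  exact h

theorem nf_unique {c : PowerSeries k} (hc : PowerSeries.constantCoeff c = 0)
    {q : MvPowerSeries (Fin 2) k} {a b : PowerSeries k}
    (h : (MvPowerSeries.X 1 ^ 2 - incl k c) * q = incl k a +
        incl k b * MvPowerSeries.X 1) : a = 0 ∧ b = 0 := by
  have h1 := congrArg (E k) h
  simp only [map_add, map_mul, map_sub, map_pow, E_X1, E_incl] at h1
  exact nf_unique_ps hc h1

end Field

end K813.NF
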