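import Groth.Agent.ArSing.K813.EvOdd

/-!
# The node algebra `ArSing.ring k 1` as a fibre product of two copies of `k[[t]]`
-/

set_option autoImplicit false

namespace K813.Node

open IsLocalRing ArSing K813.NF K813.Basic K813.Ring K813.Len K813.EvOdd

universe u v

theorem ps_exC {k : Type u} [Field k] (b : PowerSeries k) :
    ∃ t : k, b - algebraMap k (PowerSeries k) t ∈ maximalIdeal (PowerSeries k) :=
  K813.Basic.exists_const (σ := Unit) b

variable (k : Type u) [Field k]

/-- The branch coordinate `u = x + y`. -/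
noncomputable abbrev uu : ring k 1 := x k 1 + y k 1

/-- The branch coordinate `v = y - x`. -/
noncomputable abbrev vv : ring k 1 := y k 1 - x k 1

theorem uu_mul_vv : uu k * vv k = 0 := by
  have h := y_sq (k := k) (r := 1)
  rw [uu, vv]
  linear_combination h

theorem exists_pi (a b : k) (hab : b ^ 2 = a ^ 2) : ∃ f : ring k 1 →ₐ[k] PowerSeries k,
    f (x k 1) = PowerSeries.C a * PowerSeries.X ∧ f (y k 1) = PowerSeries.C b * PowerSeries.X := by
  have := isAdicComplete_ps k
  have hX : (PowerSeries.X : PowerSeries k) ∈ maximalIdeal (PowerSeries k) :=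
    X_mem_maximalIdeal (k := k) ()
  refine exists_hom (k := k) (r := 1) (S := PowerSeries k) (Ideal.mul_mem_left _ _ hX)
    (Ideal.mul_mem_left _ _ hX) ?_
  have h1 : (PowerSeries.C b : PowerSeries k) ^ 2 = PowerSeries.C a ^ 2 := by
    rw [← map_pow, hab, map_pow]
  linear_combination PowerSeries.X ^ 2 * h1

/-- The projection to the branch `v = 0`. -/
noncomputable def piu : ring k 1 →ₐ[k] PowerSeries k := (exists_pi k (2⁻¹) (2⁻¹) rfl).choose

/-- The projection to the branch `u = 0`. -/
noncomputable def piv : ring k 1 →ₐ[k] PowerSeries k :=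
  (exists_pi k (-2⁻¹) (2⁻¹) (by ring)).choose

theorem piu_x : piu k (x k 1) = PowerSeries.C 2⁻¹ * PowerSeries.X :=
  (exists_pi k (2⁻¹) (2⁻¹) rfl).choose_spec.1

theorem piu_y : piu k (y k 1) = PowerSeries.C 2⁻¹ * PowerSeries.X :=
  (exists_pi k (2⁻¹) (2⁻¹) rfl).choose_spec.2

theorem piv_x : piv k (x k 1) = PowerSeries.C (-2⁻¹) * PowerSeries.X :=
  (exists_pi k (-2⁻¹) (2⁻¹) (by ring)).choose_spec.1

theorem piv_y : piv k (y k 1) = PowerSeries.C 2⁻¹ * PowerSeries.X :=
  (exists_pi k (-2⁻¹) (2⁻¹) (by ring)).choose_spec.2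

variable {k}

section Two

variable (h2 : (2 : k) ≠ 0)
include h2

theorem C_half_add : (PowerSeries.C 2⁻¹ : PowerSeries k) + PowerSeries.C 2⁻¹ = 1 := by
  rw [← map_add, ← two_mul, mul_inv_cancel₀ h2, map_one]

theorem piu_uu : piu k (uu k) = PowerSeries.X := by
  rw [uu, map_add, piu_x, piu_y, ← add_mul, C_half_add h2, one_mul]

omit h2 in
theorem piu_vv : piu k (vv k) = 0 := by
  rw [vv, map_sub, piu_x, piu_y, sub_self]

omit h2 in
theorem piv_uu : piv k (uu k) = 0 := by
  rw [uu, map_add, piv_x, piv_y, map_neg]; ring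

theorem piv_vv : piv k (vv k) = PowerSeries.X := by
  rw [vv, map_sub, piv_x, piv_y, map_neg, neg_mul, sub_neg_eq_add, ← add_mul, C_half_add h2, one_mul]

omit h2 in
theorem piu_xMap (p : PowerSeries k) : piu k (xMap k 1 p) = PowerSeries.rescale 2⁻¹ p := by
  have h : (piu k).comp (xMap k 1) = PowerSeries.rescaleAlgHom 2⁻¹ := by
    apply ps_hom_ext ps_exC
    rw [AlgHom.comp_apply, xMap_X, piu_x, rescaleAlgHom_apply', PowerSeries.rescale_X]
  have := DFunLike.congr_fun h p
  rwa [AlgHom.comp_apply, rescaleAlgHom_apply'] at this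

omit h2 in
theorem piv_xMap (p : PowerSeries k) : piv k (xMap k 1 p) = PowerSeries.rescale (-2⁻¹) p := by
  have h : (piv k).comp (xMap k 1) = PowerSeries.rescaleAlgHom (-2⁻¹) := by
    apply ps_hom_ext ps_exC
    rw [AlgHom.comp_apply, xMap_X, piv_x, rescaleAlgHom_apply', PowerSeries.rescale_X]
  have := DFunLike.congr_fun h p
  rwa [AlgHom.comp_apply, rescaleAlgHom_apply'] at this

omit h2 in
theorem rescale_rescale' (a b : k) (hab : a * b = 1) (p : PowerSeries k) :
    PowerSeries.rescale a (PowerSeries.rescale b p) = p := by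
  rw [PowerSeries.rescale_rescale, mul_comm b a, hab, PowerSeries.rescale_one, RingHom.id_apply]

/-- Injectivity of `(piu, piv)`. -/
theorem eq_zero_of_pi {a : ring k 1} (hu : piu k a = 0) (hv : piv k a = 0) : a = 0 := by
  obtain ⟨p, q, rfl⟩ := exists_xy a
  rw [map_add, map_mul, piu_xMap, piu_xMap, piu_y] at hu
  rw [map_add, map_mul, piv_xMap, piv_xMap, piv_y] at hv
  have hu' := congrArg (PowerSeries.rescale (2 : k)) hu
  have hv' := congrArg (PowerSeries.rescale (-2 : k)) hv
  have e1 : (2 : k) * 2⁻¹ = 1 := mul_inv_cancel₀ h2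
  have e2 : (-2 : k) * (-2⁻¹) = 1 := by rw [neg_mul_neg]; exact e1
  have hC : ∀ a c : k, PowerSeries.rescale a (PowerSeries.C c) = PowerSeries.C c := by
    intro a c
    ext n
    rw [PowerSeries.coeff_rescale, PowerSeries.coeff_C]
    split_ifs with h
    · simp [h]
    · simp
  rw [map_add, map_mul, map_mul, rescale_rescale' _ _ e1, rescale_rescale' _ _ e1,
    PowerSeries.rescale_X, hC, map_zero, ← mul_assoc (PowerSeries.C 2⁻¹), ← map_mul,
    inv_mul_cancel₀ h2, map_one, one_mul] at hu'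
  rw [map_add, map_mul, map_mul, rescale_rescale' _ _ e2, rescale_rescale' _ _ e2,
    PowerSeries.rescale_X, hC, map_zero, ← mul_assoc (PowerSeries.C 2⁻¹), ← map_mul,
    show (2⁻¹ : k) * -2 = -1 by rw [mul_neg, inv_mul_cancel₀ h2], map_neg, map_one] at hv'
  have h3 : -p = p := by linear_combination (-1 : PowerSeries k) * hu' - hv'
  have h4 : p = 0 := eq_zero_of_eq_neg h2 h3
  rw [h4, zero_add] at hu'
  have h5 : q = 0 := (mul_eq_zero.1 hu').resolve_right PowerSeries.X_ne_zero
  rw [h4, h5]; simp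

theorem ext_pi {a b : ring k 1} (hu : piu k a = piu k b) (hv : piv k a = piv k b) : a = b := by
  rw [← sub_eq_zero]
  apply eq_zero_of_pi h2
  · rw [map_sub, hu, sub_self]
  · rw [map_sub, hv, sub_self]

/-- The image of `(piu, piv)`. -/
theorem exists_pi_eq {f g : PowerSeries k}
    (hfg : PowerSeries.constantCoeff f = PowerSeries.constantCoeff g) :
    ∃ a : ring k 1, piu k a = f ∧ piv k a = g := by
  obtain ⟨Q, hQ⟩ : ∃ Q, f - PowerSeries.rescale (-1) g = PowerSeries.X * Q := by
    refine PowerSeries.X_dvd_iff.2 ?_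
    have h1 : PowerSeries.constantCoeff (PowerSeries.rescale (-1) g) =
        PowerSeries.constantCoeff g := by
      rw [← PowerSeries.coeff_zero_eq_constantCoeff_apply, PowerSeries.coeff_rescale]
      simp
    rw [map_sub, h1, hfg, sub_self]
  obtain ⟨P, hP⟩ : ∃ P : PowerSeries k,
    P = PowerSeries.C 2⁻¹ * (f + PowerSeries.rescale (-1) g) := ⟨_, rfl⟩
  have e1 : (2⁻¹ : k) * 2 = 1 := inv_mul_cancel₀ h2
  have e2 : ∀ F : PowerSeries k, PowerSeries.rescale (-2⁻¹) (PowerSeries.rescale 2 F) =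
      PowerSeries.rescale (-1) F := by
    intro F
    rw [PowerSeries.rescale_rescale]
    congr 1
    rw [mul_neg, mul_inv_cancel₀ h2]
  have e3 : ∀ F : PowerSeries k, PowerSeries.rescale (-1) (PowerSeries.rescale (-1) F) = F :=
    rescale_rescale' _ _ (by ring)
  have hC : ∀ a c : k, PowerSeries.rescale a (PowerSeries.C c) = PowerSeries.C c := by
    intro a c
    ext n
    rw [PowerSeries.coeff_rescale, PowerSeries.coeff_C]
    split_ifs with h
    · simp [h]
    · simp
  have hC2 := C_half_add h2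
  refine ⟨xMap k 1 (PowerSeries.rescale 2 P) + xMap k 1 (PowerSeries.rescale 2 Q) * y k 1, ?_, ?_⟩
  · rw [map_add, map_mul, piu_xMap, piu_xMap, piu_y, rescale_rescale' _ _ e1,
      rescale_rescale' _ _ e1, hP]
    linear_combination (-PowerSeries.C 2⁻¹ : PowerSeries k) * hQ + f * hC2
  · have hQ' := congrArg (PowerSeries.rescale (-1)) hQ
    rw [map_sub, map_mul, e3, PowerSeries.rescale_X, map_neg, map_one] at hQ'
    rw [map_add, map_mul, piv_xMap, piv_xMap, piv_y, e2, e2, hP, map_mul, map_add, e3, hC]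
    linear_combination (PowerSeries.C 2⁻¹ : PowerSeries k) * hQ' + g * hC2

theorem ker_piu {a : ring k 1} (ha : piu k a = 0) : ∃ c : ring k 1, a = vv k * c := by
  obtain ⟨g, hg⟩ : ∃ g, piv k a = PowerSeries.X * g := by
    refine PowerSeries.X_dvd_iff.2 ?_
    obtain ⟨p, q, rfl⟩ := exists_xy a
    rw [map_add, map_mul, piu_xMap, piu_y] at ha
    rw [map_add, map_mul, piv_xMap, piv_y]
    have h1 := congrArg PowerSeries.constantCoeff ha
    rw [map_add, map_mul, map_mul, PowerSeries.constantCoeff_X, mul_zero, mul_zero, add_zero,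
      map_zero, ← PowerSeries.coeff_zero_eq_constantCoeff_apply, PowerSeries.coeff_rescale,
      pow_zero, one_mul] at h1
    rw [map_add, map_mul, map_mul, PowerSeries.constantCoeff_X, mul_zero, mul_zero, add_zero,
      ← PowerSeries.coeff_zero_eq_constantCoeff_apply, PowerSeries.coeff_rescale,
      pow_zero, one_mul]
    exact h1
  obtain ⟨c, hc1, hc2⟩ := exists_pi_eq h2 (f := PowerSeries.C (PowerSeries.constantCoeff g)) (g := g)
    (by simp)
  refine ⟨c, ext_pi h2 ?_ ?_⟩
  · rw [map_mul, piu_vv, zero_mul, ha]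
  · rw [map_mul, piv_vv h2, hc2, hg]

theorem ker_piv {a : ring k 1} (ha : piv k a = 0) : ∃ c : ring k 1, a = uu k * c := by
  obtain ⟨g, hg⟩ : ∃ g, piu k a = PowerSeries.X * g := by
    refine PowerSeries.X_dvd_iff.2 ?_
    obtain ⟨p, q, rfl⟩ := exists_xy a
    rw [map_add, map_mul, piv_xMap, piv_y] at ha
    rw [map_add, map_mul, piu_xMap, piu_y]
    have h1 := congrArg PowerSeries.constantCoeff ha
    rw [map_add, map_mul, map_mul, PowerSeries.constantCoeff_X, mul_zero, mul_zero, add_zero,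
      map_zero, ← PowerSeries.coeff_zero_eq_constantCoeff_apply, PowerSeries.coeff_rescale,
      pow_zero, one_mul] at h1
    rw [map_add, map_mul, map_mul, PowerSeries.constantCoeff_X, mul_zero, mul_zero, add_zero,
      ← PowerSeries.coeff_zero_eq_constantCoeff_apply, PowerSeries.coeff_rescale,
      pow_zero, one_mul]
    exact h1
  obtain ⟨c, hc1, hc2⟩ := exists_pi_eq h2 (f := g) (g := PowerSeries.C (PowerSeries.constantCoeff g))
    (by simp)
  refine ⟨c, ext_pi h2 ?_ ?_⟩
  · rw [map_mul, piu_uu h2, hc1, hg]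
  · rw [map_mul, piv_uu, zero_mul, ha]

end Two

end K813.Node
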