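import Groth.Agent.ArSing.K813.Pow2
import Groth.Agent.Curves.K324.PlaneSing
import Groth.Agent.FunFld.K669.MvPolyDer
import Groth.Agent.CurvesC.NodalAlg
import Mathlib.RingTheory.KrullDimension.Polynomial
import Mathlib.RingTheory.KrullDimension.Field
import Mathlib.RingTheory.MvPowerSeries.Derivative
import Mathlib.RingTheory.UniqueFactorizationDomain.Ideal

/-!
# Plane curves at a point and their completions
-/

set_option autoImplicit false

namespace K813.Recenter

open MvPolynomial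

universe u

variable {k : Type u} [Field k]

/-- Translation by `a`. -/
noncomputable def T (a : Fin 2 → k) : MvPolynomial (Fin 2) k →ₐ[k] MvPolynomial (Fin 2) k :=
  aeval (fun i : Fin 2 => X i + C (a i))

theorem T_X (a : Fin 2 → k) (i : Fin 2) : T a (X i) = X i + C (a i) := by
  rw [T, aeval_X]

theorem T_C (a : Fin 2 → k) (c : k) : T a (C c) = C c := by
  rw [T]; exact algHom_C _ c

theorem T_neg_T (a : Fin 2 → k) (f : MvPolynomial (Fin 2) k) : T (-a) (T a f) = f := by
  have h : (T (-a)).comp (T a) = AlgHom.id k _ := by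
    apply algHom_ext
    intro i
    rw [AlgHom.comp_apply, T_X, map_add, T_X, T_C, Pi.neg_apply, map_neg, neg_add_cancel_right]
    rfl
  exact DFunLike.congr_fun h f

theorem T_T_neg (a : Fin 2 → k) (f : MvPolynomial (Fin 2) k) : T a (T (-a) f) = f := by
  have := T_neg_T (-a) f
  rwa [neg_neg] at this

theorem eval_T (a : Fin 2 → k) (f : MvPolynomial (Fin 2) k) : eval 0 (T a f) = eval a f := by
  have h : (aeval (0 : Fin 2 → k)).comp (T a) = aeval a := by
    apply algHom_ext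
    intro i
    rw [AlgHom.comp_apply, T_X, map_add, aeval_X, aeval_X, aeval_C]
    simp
  have h2 := DFunLike.congr_fun h f
  simpa [coe_aeval_eq_eval] using h2

theorem pderiv_T (a : Fin 2 → k) (f : MvPolynomial (Fin 2) k) (i : Fin 2) :
    pderiv i (T a f) = T a (pderiv i f) := by
  rw [T, K669.MvPolyDer.pderiv_aeval, Finset.sum_eq_single i]
  · simp
  · intro j _ hj
    rw [map_add, pderiv_X_of_ne hj, pderiv_C, add_zero, mul_zero]
  · simp

theorem coeff_single (P : MvPolynomial (Fin 2) k) (i : Fin 2) :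
    coeff (Finsupp.single i 1) P = eval 0 (pderiv i P) := by
  have h := coeff_pderiv (i := i) P 0
  simp only [zero_add, Finsupp.coe_zero, Pi.zero_apply, Nat.cast_zero, mul_one] at h
  rw [← h, ← constantCoeff_eq, ← eval_zero]

/-- The power series attached to a polynomial. -/
theorem constantCoeff_coe (P : MvPolynomial (Fin 2) k) :
    MvPowerSeries.constantCoeff (P : MvPowerSeries (Fin 2) k) = eval 0 P := by
  rw [← MvPowerSeries.coeff_zero_eq_constantCoeff_apply, coeff_coe, ← constantCoeff_eq,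
    ← eval_zero]

/-- In `k[x,y]`, a prime properly contained in another prime and containing a prime element is
generated by it. -/
theorem eq_span_of_lt {p : MvPolynomial (Fin 2) k} (hp : Prime p) {𝔮 𝔪 : Ideal (MvPolynomial (Fin 2) k)}
    (h𝔮 : 𝔮.IsPrime) (h𝔪 : 𝔪.IsPrime) (hp𝔮 : p ∈ 𝔮) (hlt : 𝔮 < 𝔪) : 𝔮 = Ideal.span {p} := by
  by_contra hne
  have hdim : ringKrullDim (MvPolynomial (Fin 2) k) = 2 := by
    rw [MvPolynomial.ringKrullDim_of_isNoetherianRing, ringKrullDim_eq_zero_of_field]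
    simp
  have hpp : (Ideal.span {p}).IsPrime := (Ideal.span_singleton_prime hp.ne_zero).2 hp
  have h1 : (⟨⊥, Ideal.isPrime_bot⟩ : PrimeSpectrum (MvPolynomial (Fin 2) k)) < ⟨Ideal.span {p}, hpp⟩ := by
    change (⊥ : Ideal _) < Ideal.span {p}
    rw [bot_lt_iff_ne_bot, Ne, Ideal.span_singleton_eq_bot]
    exact hp.ne_zero
  have h2 : (⟨Ideal.span {p}, hpp⟩ : PrimeSpectrum (MvPolynomial (Fin 2) k)) < ⟨𝔮, h𝔮⟩ := by
    change Ideal.span {p} < 𝔮
    refine lt_of_le_of_ne ?_ (Ne.symm hne)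
    rw [Ideal.span_singleton_le_iff_mem]; exact hp𝔮
  have h3 : (⟨𝔮, h𝔮⟩ : PrimeSpectrum (MvPolynomial (Fin 2) k)) < ⟨𝔪, h𝔪⟩ := hlt
  have e1 := Order.height_add_one_le h1
  have e2 := Order.height_add_one_le h2
  have e3 := Order.height_add_one_le h3
  have e4 : ((3 : ℕ) : ℕ∞) ≤ Order.height (⟨𝔪, h𝔪⟩ : PrimeSpectrum (MvPolynomial (Fin 2) k)) := by
    refine le_trans ?_ e3
    have : ((3 : ℕ) : ℕ∞) = 0 + 1 + 1 + 1 := by norm_num
    rw [this]
    gcongr
    refine le_trans ?_ e2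
    gcongr
    refine le_trans ?_ e1
    gcongr
    exact zero_le
  have e5 := Order.height_le_krullDim (⟨𝔪, h𝔪⟩ : PrimeSpectrum (MvPolynomial (Fin 2) k))
  have e6 : Order.krullDim (PrimeSpectrum (MvPolynomial (Fin 2) k)) = 2 := hdim
  rw [e6] at e5
  have e7 : (((3 : ℕ) : ℕ∞) : WithBot ℕ∞) ≤ (((2 : ℕ) : ℕ∞) : WithBot ℕ∞) :=
    le_trans (WithBot.coe_le_coe.2 e4) e5
  have e8 : ((3 : ℕ) : ℕ∞) ≤ ((2 : ℕ) : ℕ∞) := WithBot.coe_le_coe.1 e7
  have e9 : (3 : ℕ) ≤ 2 := by exact_mod_cast e8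
  omega

end K813.Recenter
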