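import Groth.Agent.ArSing.K813.NF

/-!
# The rings `ArSing.ring k r`
-/

set_option autoImplicit false

namespace K813.Ring

open IsLocalRing ArSing K813.NF K813.Basic

universe u v

variable {k : Type u} [Field k] {r : ℕ}

theorem eqn_eq (k : Type u) [Field k] (r : ℕ) :
    eqn k r = MvPowerSeries.X 1 ^ 2 - incl k (PowerSeries.X ^ (r + 1)) := by
  rw [eqn, map_pow, incl_X]

theorem constantCoeff_X_pow_succ (r : ℕ) :
    PowerSeries.constantCoeff (PowerSeries.X ^ (r + 1) : PowerSeries k) = 0 := by
  simp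

theorem eqn_mem (k : Type u) [Field k] (r : ℕ) :
    eqn k r ∈ maximalIdeal (MvPowerSeries (Fin 2) k) := by
  rw [mem_maximalIdeal_iff, eqn]; simp

instance nontrivial : Nontrivial (ring k r) := by
  rw [Ideal.Quotient.nontrivial_iff]
  intro h
  have h1 : Ideal.span {eqn k r} ≤ maximalIdeal (MvPowerSeries (Fin 2) k) := by
    rw [Ideal.span_singleton_le_iff_mem]; exact eqn_mem k r
  rw [h] at h1
  exact Ideal.IsPrime.ne_top' (top_le_iff.1 h1)

instance isLocalRing : IsLocalRing (ring k r) :=
  IsLocalRing.of_surjective' (Ideal.Quotient.mk (Ideal.span {eqn k r})) Ideal.Quotient.mk_surjective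

theorem isAdicComplete : IsAdicComplete (maximalIdeal (ring k r)) (ring k r) := by
  have := Groth.Agent.Ega41.MvPS.isAdicComplete_maximalIdeal (σ := Fin 2) k
  exact isAdicComplete_quotient _ _

/-- The quotient map as an algebra map. -/
noncomputable abbrev mkA (k : Type u) [Field k] (r : ℕ) : MvPowerSeries (Fin 2) k →ₐ[k] ring k r :=
  Ideal.Quotient.mkₐ k (Ideal.span {eqn k r})

theorem mkA_surjective : Function.Surjective (mkA k r) := Ideal.Quotient.mk_surjective

theorem xMap_apply (p : PowerSeries k) : xMap k r p = mkA k r (incl k p) := rfl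

theorem mkA_X0 : mkA k r (MvPowerSeries.X 0) = x k r := rfl

theorem mkA_X1 : mkA k r (MvPowerSeries.X 1) = y k r := rfl

theorem xMap_X : xMap k r PowerSeries.X = x k r := by
  rw [xMap_apply, incl_X]
  rfl

theorem mkA_eqn : mkA k r (eqn k r) = 0 :=
  Ideal.Quotient.eq_zero_iff_mem.2 (Ideal.subset_span rfl)

theorem y_sq : y k r ^ 2 = x k r ^ (r + 1) := by
  have h : mkA k r (MvPowerSeries.X 1 ^ 2 - MvPowerSeries.X 0 ^ (r + 1)) = 0 :=
    mkA_eqn (k := k) (r := r)
  rw [map_sub, map_pow, map_pow, sub_eq_zero] at h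
  exact h

theorem xMap_C (c : k) : xMap k r (PowerSeries.C c) = algebraMap k (ring k r) c :=
  (xMap k r).commutes c

theorem exists_xy (a : ring k r) : ∃ p q : PowerSeries k, a = xMap k r p + xMap k r q * y k r := by
  obtain ⟨f, rfl⟩ := mkA_surjective a
  obtain ⟨q, a, b, h⟩ := exists_nf (constantCoeff_X_pow_succ (k := k) r) f
  refine ⟨a, b, ?_⟩
  rw [← eqn_eq] at h
  rw [h, map_add, map_mul, mkA_eqn, zero_mul, zero_add, map_add, map_mul]
  rfl

theorem xy_unique {p q : PowerSeries k} (h : xMap k r p + xMap k r q * y k r = 0) :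
    p = 0 ∧ q = 0 := by
  have h1 : mkA k r (incl k p + incl k q * MvPowerSeries.X 1) = 0 := by
    rw [map_add, map_mul]; exact h
  rw [Ideal.Quotient.mkₐ_eq_mk, Ideal.Quotient.eq_zero_iff_mem, Ideal.mem_span_singleton'] at h1
  obtain ⟨s, hs⟩ := h1
  rw [eqn_eq, mul_comm] at hs
  exact nf_unique (constantCoeff_X_pow_succ (k := k) r) hs

theorem xMap_injective : Function.Injective (xMap k r) := by
  rw [injective_iff_map_eq_zero]
  intro p hp
  exact (xy_unique (r := r) (q := 0) (by simpa using hp)).1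

theorem exC (k : Type u) [Field k] (r : ℕ) (b : ring k r) :
    ∃ t : k, b - algebraMap k (ring k r) t ∈ maximalIdeal (ring k r) :=
  exists_const_of_surjective (mkA k r) mkA_surjective exists_const b

theorem mkA_mem {f : MvPowerSeries (Fin 2) k} (hf : f ∈ maximalIdeal (MvPowerSeries (Fin 2) k)) :
    mkA k r f ∈ maximalIdeal (ring k r) :=
  map_mem_maximalIdeal (exC k r) (mkA k r) hf

theorem x_mem : x k r ∈ maximalIdeal (ring k r) := mkA_mem (X_mem_maximalIdeal 0)

theorem y_mem : y k r ∈ maximalIdeal (ring k r) := mkA_mem (X_mem_maximalIdeal 1)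

theorem maximalIdeal_eq : maximalIdeal (ring k r) = Ideal.span {x k r, y k r} := by
  have h := IsLocalRing.map_maximalIdeal_of_surjective
    ((mkA k r : MvPowerSeries (Fin 2) k →ₐ[k] ring k r) : MvPowerSeries (Fin 2) k →+* ring k r)
    (mkA_surjective (k := k) (r := r))
  rw [← h, Groth.Agent.Ega41.MvPS.maximalIdeal_eq, Ideal.map_span, ← Set.range_comp]
  congr 1
  ext a
  constructor
  · rintro ⟨i, rfl⟩
    fin_cases i
    · left; rfl
    · right; rfl
  · rintro (rfl | rfl)
    · exact ⟨0, rfl⟩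
    · exact ⟨1, rfl⟩

/-- Uniqueness of algebra maps out of `ring k r`. -/
theorem hom_ext {S : Type v} [CommRing S] [IsLocalRing S] [IsNoetherianRing S] [Algebra k S]
    (hS : ∀ b : S, ∃ t : k, b - algebraMap k S t ∈ maximalIdeal S) {f g : ring k r →ₐ[k] S}
    (hx : f (x k r) = g (x k r)) (hy : f (y k r) = g (y k r)) : f = g := by
  have h : f.comp (mkA k r) = g.comp (mkA k r) := by
    refine K813.Basic.algHom_ext (maximalIdeal S) ?_ ?_
    · intro i
      exact map_mem_maximalIdeal hS (f.comp (mkA k r)) (X_mem_maximalIdeal i)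
    · intro i
      fin_cases i
      · exact hx
      · exact hy
  ext a
  obtain ⟨a, rfl⟩ := mkA_surjective a
  exact DFunLike.congr_fun h a

/-- Existence of algebra maps out of `ring k r`. -/
theorem exists_hom {S : Type v} [CommRing S] [IsLocalRing S] [IsAdicComplete (maximalIdeal S) S]
    [Algebra k S] {a b : S} (ha : a ∈ maximalIdeal S) (hb : b ∈ maximalIdeal S)
    (hab : b ^ 2 = a ^ (r + 1)) : ∃ f : ring k r →ₐ[k] S, f (x k r) = a ∧ f (y k r) = b := by
  obtain ⟨f, hf⟩ := exists_algHom (R := k) (σ := Fin 2) (maximalIdeal S) ![a, b] (by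
    intro i; fin_cases i
    · exact ha
    · exact hb)
  have h0 : f (MvPowerSeries.X 0) = a := hf 0
  have h1 : f (MvPowerSeries.X 1) = b := hf 1
  refine ⟨Ideal.Quotient.liftₐ _ f ?_, ?_, ?_⟩
  · intro c hc
    rw [Ideal.mem_span_singleton'] at hc
    obtain ⟨d, rfl⟩ := hc
    rw [map_mul, eqn, map_sub, map_pow, map_pow, h0, h1, hab, sub_self, mul_zero]
  · exact h0
  · exact h1

/-- Surjectivity of algebra maps out of `ring k r`. -/
theorem surjective_of_gen {S : Type v} [CommRing S] [IsLocalRing S] [IsNoetherianRing S] [Algebra k S]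
    (hS : ∀ b : S, ∃ t : k, b - algebraMap k S t ∈ maximalIdeal S) (f : ring k r →ₐ[k] S)
    (h : maximalIdeal S ≤ Ideal.span {f (x k r), f (y k r)}) : Function.Surjective f := by
  have h1 : Function.Surjective (f.comp (mkA k r)) := by
    refine surjective_of_span (maximalIdeal S) _ ?_ ?_ hS
    · refine h.trans (Ideal.span_mono ?_)
      rintro _ (rfl | rfl)
      · exact ⟨0, rfl⟩
      · exact ⟨1, rfl⟩
    · intro i
      exact map_mem_maximalIdeal hS (f.comp (mkA k r)) (X_mem_maximalIdeal i)
  exact Function.Surjective.of_comp h1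

/-- Endomorphisms of `ring k r` with given values which are automorphisms. -/
theorem exists_equiv {a b : ring k r} (ha : a ∈ maximalIdeal (ring k r))
    (hb : b ∈ maximalIdeal (ring k r)) (hab : b ^ 2 = a ^ (r + 1))
    (h : maximalIdeal (ring k r) ≤ Ideal.span {a, b}) :
    ∃ φ : ring k r ≃ₐ[k] ring k r, φ (x k r) = a ∧ φ (y k r) = b := by
  have := isAdicComplete (k := k) (r := r)
  obtain ⟨f, hfx, hfy⟩ := exists_hom (k := k) (r := r) ha hb hab
  have hs : Function.Surjective f := surjective_of_gen (exC k r) f (by rw [hfx, hfy]; exact h)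
  have hi : Function.Injective f := injective_of_surjective_ringEnd (f : ring k r →+* ring k r) hs
  exact ⟨AlgEquiv.ofBijective f ⟨hi, hs⟩, hfx, hfy⟩

theorem mem_maximalIdeal_xy {p q : PowerSeries k} :
    xMap k r p + xMap k r q * y k r ∈ maximalIdeal (ring k r) ↔ PowerSeries.constantCoeff p = 0 := by
  have h1 : xMap k r q * y k r ∈ maximalIdeal (ring k r) := Ideal.mul_mem_left _ _ y_mem
  rw [Ideal.add_mem_iff_left _ h1]
  constructor
  · intro h
    by_contra hne
    have hu : IsUnit p := by
      rw [PowerSeries.isUnit_iff_constantCoeff]; exact IsUnit.mk0 _ hne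
    exact h (hu.map (xMap k r))
  · intro h
    exact map_mem_maximalIdeal (exC k r) (xMap k r)
      ((K813.Basic.mem_maximalIdeal_iff (σ := Unit)).2 h)

end K813.Ring
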