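import Groth.Agent.ArSing.K813.Ring

/-!
# Semi-invariant elements for involutions
-/

set_option autoImplicit false

namespace K813.Semi

open IsLocalRing K813.Basic

universe u v

/-- If `σ z = w z` with `z ≠ 0`, then some unit multiple of `z` is an eigenvector. -/
theorem exists_semi {k : Type u} [Field k] (h2 : (2 : k) ≠ 0) {S : Type v} [CommRing S]
    [IsLocalRing S] [Algebra k S]
    (hS : ∀ b : S, ∃ t : k, b - algebraMap k S t ∈ maximalIdeal S)
    (σ : S ≃ₐ[k] S) (hσ : ∀ s, σ (σ s) = s) (z w : S) (hz : z ≠ 0) (hw : σ z = w * z) :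
    ∃ c : k, c ^ 2 = 1 ∧ ∃ h : S, IsUnit h ∧ σ (h * z) = algebraMap k S c * (h * z) := by
  obtain ⟨c, hc⟩ := hS w
  have hc' : σ w - algebraMap k S c ∈ maximalIdeal S := by
    have := map_mem_maximalIdeal hS (σ : S →ₐ[k] S) hc
    simpa using this
  have h1 : (1 - σ w * w) * z = 0 := by
    have h := hσ z
    rw [hw, map_mul, hw] at h
    linear_combination -h
  have h3 : 1 - σ w * w ∈ maximalIdeal S := by
    by_contra hn
    have hu : IsUnit (1 - σ w * w) := by
      by_contra hu
      exact hn hu
    exact hz ((hu.mul_right_eq_zero).1 h1)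
  have h4 : σ w * w - algebraMap k S (c ^ 2) ∈ maximalIdeal S := by
    have h5 := Ideal.add_mem _ (Ideal.mul_mem_right w _ hc')
      (Ideal.mul_mem_left _ (algebraMap k S c) hc)
    have e : σ w * w - algebraMap k S (c ^ 2) = (σ w - algebraMap k S c) * w +
        algebraMap k S c * (w - algebraMap k S c) := by rw [map_pow]; ring
    rw [e]; exact h5
  have hc2 : c ^ 2 = 1 := by
    have h5 : algebraMap k S (1 - c ^ 2) ∈ maximalIdeal S := by
      have h6 := Ideal.add_mem _ h3 h4
      have e : 1 - σ w * w + (σ w * w - algebraMap k S (c ^ 2)) = algebraMap k S (1 - c ^ 2) := by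
        rw [map_sub, map_one]; ring
      rwa [e] at h6
    by_contra hne
    exact h5 ((IsUnit.mk0 (1 - c ^ 2) (fun h => hne (sub_eq_zero.1 h).symm)).map (algebraMap k S))
  have hcc : algebraMap k S c * algebraMap k S c = 1 := by
    rw [← map_mul, ← sq, hc2, map_one]
  refine ⟨c, hc2, algebraMap k S 2⁻¹ * (1 + algebraMap k S c * w), ?_, ?_⟩
  · by_contra hn
    have hm : algebraMap k S 2⁻¹ * (1 + algebraMap k S c * w) ∈ maximalIdeal S := hn
    have h5 : (1 : S) ∈ maximalIdeal S := by
      have h6 := Ideal.sub_mem _ hm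
        (Ideal.mul_mem_left _ (algebraMap k S 2⁻¹ * algebraMap k S c) hc)
      have e : algebraMap k S 2⁻¹ * (1 + algebraMap k S c * w) -
          algebraMap k S 2⁻¹ * algebraMap k S c * (w - algebraMap k S c) = 1 := by
        have e1 : algebraMap k S 2⁻¹ + algebraMap k S 2⁻¹ = 1 := by
          rw [← map_add, ← two_mul, mul_inv_cancel₀ h2, map_one]
        linear_combination algebraMap k S 2⁻¹ * hcc + e1
      rwa [e] at h6
    exact (Ideal.ne_top_iff_one _).1 Ideal.IsPrime.ne_top' h5
  · have h5 : σ (algebraMap k S 2⁻¹ * (1 + algebraMap k S c * w) * z) =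
        algebraMap k S 2⁻¹ * (σ z + algebraMap k S c * z) := by
      have e : algebraMap k S 2⁻¹ * (1 + algebraMap k S c * w) * z =
        algebraMap k S 2⁻¹ * (z + algebraMap k S c * σ z) := by rw [hw]; ring
      rw [e, map_mul, map_add, map_mul, hσ, AlgEquiv.commutes, AlgEquiv.commutes]
    rw [h5, hw]
    linear_combination (-(algebraMap k S 2⁻¹ * w * z)) * hcc

end K813.Semi
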